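import Mathlib.GroupTheory.FiniteAbelian.Duality
import Mathlib.RingTheory.RootsOfUnity.AlgebraicallyClosed
import Mathlib.Analysis.Complex.Polynomial.Basic
import Mathlib.Algebra.Group.End
import Mathlib.GroupTheory.OrderOfElement

/-!
# Coprime actions on abelian groups and the linear characters of an abelian section
-/

set_option autoImplicit false
set_option linter.unusedSectionVars false
set_option linter.style.haveILetI false

namespace Cfsg.Agent.Lib.OddSection

open scoped ComplexConjugate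

universe u v

section Fixed

variable {M : Type u} [CommGroup M] [Finite M] {A : Type v} [Group A] [Fintype A]
  (α : A →* MulAut M)

theorem act_prod_act (a : A) (v : M) : α a (∏ b, α b v) = ∏ b, α b v := by
  rw [map_prod]
  exact Fintype.prod_equiv (Equiv.mulLeft a) _ _ fun b => by simp [map_mul]

theorem prod_act_act (a : A) (v : M) : ∏ b, α b (α a v) = ∏ b, α b v :=
  Fintype.prod_equiv (Equiv.mulRight a) _ _ fun b => by simp [map_mul]

/-- With only the trivial fixed point, an element whose displacements lie in a subgroup lies in it. -/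
theorem mem_of_moves (hcop : (Nat.card M).Coprime (Nat.card A))
    (hfix : ∀ v, (∀ a, α a v = v) → v = 1) (T : Subgroup M) {v : M}
    (h : ∀ a, v * (α a v)⁻¹ ∈ T) : v ∈ T := by
  have h1 : v ^ Nat.card A ∈ T := by
    have h2 := T.prod_mem (t := Finset.univ) fun a _ => h a
    rwa [Finset.prod_mul_distrib, Finset.prod_const, Finset.prod_inv_distrib,
      hfix _ fun a => act_prod_act α a v, inv_one, mul_one, Finset.card_univ,
      ← Nat.card_eq_fintype_card] at h2
  obtain ⟨m, hm1, hm0⟩ := Nat.chineseRemainder hcop 1 0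
  obtain ⟨c, rfl⟩ := Nat.modEq_zero_iff_dvd.1 hm0
  have h3 : (v ^ Nat.card A) ^ c = v := by
    rw [← pow_mul]
    conv_rhs => rw [← pow_one v]
    exact pow_eq_pow_of_modEq hm1 pow_card_eq_one'
  exact h3 ▸ T.pow_mem h1 c

/-- Generation by displacements leaves only the trivial fixed point. -/
theorem eq_one_of_fixed (hcop : (Nat.card M).Coprime (Nat.card A))
    (hgen : Subgroup.closure {x | ∃ a v, x = α a v * v⁻¹} = ⊤) {v : M} (hv : ∀ a, α a v = v) :
    v = 1 := by
  have h1 : ∀ w, ∏ b, α b w = 1 := by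
    intro w
    have hw : w ∈ Subgroup.closure {x | ∃ a v, x = α a v * v⁻¹} := hgen ▸ Subgroup.mem_top w
    induction hw using Subgroup.closure_induction with
    | mem x hx =>
      obtain ⟨a, u, rfl⟩ := hx
      simp only [map_mul, map_inv, Finset.prod_mul_distrib, Finset.prod_inv_distrib,
        prod_act_act, mul_inv_cancel]
    | one => simp
    | mul x y _ _ hx hy => simp [map_mul, Finset.prod_mul_distrib, hx, hy]
    | inv x _ hx => simp [map_inv, Finset.prod_inv_distrib, hx]
  have h2 := h1 v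
  simp only [hv, Finset.prod_const, Finset.card_univ, ← Nat.card_eq_fintype_card] at h2
  have h3 := pow_gcd_eq_one.mpr ⟨(pow_card_eq_one' : v ^ Nat.card M = 1), h2⟩
  rwa [hcop.gcd_eq_one, pow_one] at h3

end Fixed

section Dual

variable {K : Type u} [Group K] (L : Subgroup K)

/-- The linear characters trivial on a subgroup. -/
def dual : Subgroup (K →* ℂˣ) where
  carrier := {l | ∀ x ∈ L, l x = 1}
  one_mem' := fun _ _ => rfl
  mul_mem' := fun {a b} ha hb x hx => by simp [ha x hx, hb x hx]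
  inv_mem' := fun {a} ha x hx => by simp [ha x hx]

theorem mem_dual {l : K →* ℂˣ} : l ∈ dual L ↔ ∀ x ∈ L, l x = 1 := Iff.rfl

variable [L.Normal]

/-- They are the linear characters of the quotient. -/
noncomputable def dualEquiv : dual L ≃ ((K ⧸ L) →* ℂˣ) where
  toFun l := QuotientGroup.lift L l.1 fun x hx => l.2 x hx
  invFun ψ := ⟨ψ.comp (QuotientGroup.mk' L), fun x hx => by
    simp [(QuotientGroup.eq_one_iff x).2 hx]⟩
  left_inv l := Subtype.ext (MonoidHom.ext fun x => rfl)
  right_inv ψ := MonoidHom.ext fun q => Quotient.inductionOn' q fun x => rfl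

variable [Finite K]

instance finite_dual : Finite (dual L) := by
  haveI : Finite (K →* ℂˣ) := by
    haveI : NeZero (Nat.card K) := ⟨Nat.card_pos.ne'⟩
    refine Finite.of_injective
      (fun l : K →* ℂˣ => fun x : K => (⟨l x, by
        rw [mem_rootsOfUnity, ← map_pow, pow_card_eq_one', map_one]⟩ : rootsOfUnity (Nat.card K) ℂ))
      fun a b h => MonoidHom.ext fun x => congrArg Subtype.val (congrFun h x)
  infer_instance

theorem card_dual (hab : ∀ a b : K ⧸ L, a * b = b * a) : Nat.card (dual L) = L.index := by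
  letI : CommGroup (K ⧸ L) := { (inferInstance : Group (K ⧸ L)) with mul_comm := hab }
  haveI : NeZero ((Monoid.exponent (K ⧸ L) : ℕ) : ℂ) :=
    ⟨Nat.cast_ne_zero.2 Monoid.exponent_ne_zero_of_finite⟩
  rw [Nat.card_congr (dualEquiv L), CommGroup.card_monoidHom_of_hasEnoughRootsOfUnity,
    Subgroup.index_eq_card]

theorem exists_dual_ne_one (hab : ∀ a b : K ⧸ L, a * b = b * a) {x : K} (hx : x ∉ L) :
    ∃ l : dual L, l.1 x ≠ 1 := by
  letI : CommGroup (K ⧸ L) := { (inferInstance : Group (K ⧸ L)) with mul_comm := hab }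
  haveI : NeZero ((Monoid.exponent (K ⧸ L) : ℕ) : ℂ) :=
    ⟨Nat.cast_ne_zero.2 Monoid.exponent_ne_zero_of_finite⟩
  obtain ⟨ψ, hψ⟩ := CommGroup.exists_apply_ne_one_of_hasEnoughRootsOfUnity (K ⧸ L) ℂ
    (a := (x : K ⧸ L)) (fun h => hx ((QuotientGroup.eq_one_iff x).1 h))
  exact ⟨(dualEquiv L).symm ψ, hψ⟩

theorem sum_dual [Fintype (dual L)] (hab : ∀ a b : K ⧸ L, a * b = b * a) (x : K)
    [Decidable (x ∈ L)] : (∑ l : dual L, (l.1 x : ℂ)) = if x ∈ L then (L.index : ℂ) else 0 := by
  split_ifs with hx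
  · rw [Finset.sum_congr rfl fun (l : dual L) _ => show ((l.1 x : ℂˣ) : ℂ) = 1 by rw [l.2 x hx]; rfl,
      Finset.sum_const, Finset.card_univ, ← Nat.card_eq_fintype_card, card_dual L hab, nsmul_one]
  · obtain ⟨μ, hμ⟩ := exists_dual_ne_one L hab hx
    have h : (μ.1 x : ℂ) * ∑ l : dual L, (l.1 x : ℂ) = ∑ l : dual L, (l.1 x : ℂ) := by
      rw [Finset.mul_sum]
      exact Fintype.sum_equiv (Equiv.mulLeft μ) _ _ fun l => by simp
    rcases mul_eq_zero.1 (show ((μ.1 x : ℂ) - 1) * ∑ l : dual L, (l.1 x : ℂ) = 0 by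
      rw [sub_mul, h, one_mul, sub_self]) with h0 | h0
    · exact absurd (Units.ext (sub_eq_zero.1 h0)) hμ
    · exact h0

theorem sum_hom_eq_zero [Fintype K] {l : K →* ℂˣ} (hl : l ≠ 1) : (∑ k : K, (l k : ℂ)) = 0 := by
  obtain ⟨x, hx⟩ : ∃ x, l x ≠ 1 := by
    by_contra hcon
    push Not at hcon
    exact hl (MonoidHom.ext hcon)
  have h : (l x : ℂ) * ∑ k : K, (l k : ℂ) = ∑ k : K, (l k : ℂ) := by
    rw [Finset.mul_sum]
    exact Fintype.sum_equiv (Equiv.mulLeft x) _ _ fun k => by simp
  rcases mul_eq_zero.1 (show ((l x : ℂ) - 1) * ∑ k : K, (l k : ℂ) = 0 by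
    rw [sub_mul, h, one_mul, sub_self]) with h0 | h0
  · exact absurd (Units.ext (sub_eq_zero.1 h0)) hx
  · exact h0

omit [L.Normal] in
/-- Values of a linear character of a finite group are roots of unity. -/
theorem conj_hom_apply (l : K →* ℂˣ) (x : K) : conj (l x : ℂ) = ((l x)⁻¹ : ℂˣ) := by
  have hn : (l x : ℂ) ^ Nat.card K = 1 := by
    rw [← Units.val_pow_eq_pow_val, ← map_pow, pow_card_eq_one', map_one, Units.val_one]
  have h1 : ‖(l x : ℂ)‖ = 1 := by
    have h2 := congrArg norm hn
    rw [norm_pow, norm_one] at h2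
    exact (pow_eq_one_iff_of_nonneg (norm_nonneg _) Nat.card_pos.ne').1 h2
  rw [Units.val_inv_eq_inv_val, Complex.inv_eq_conj h1]

end Dual

end Cfsg.Agent.Lib.OddSection
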