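import Cfsg.Agent.Lib.OddSection.Involution
import Cfsg.Agent.Lib.Characters.Clifford
import Mathlib.LinearAlgebra.Matrix.ToLin

/-!
# The correspondence over an invariant character of an abelian section

For a character over the invariant character afforded by `R`, the trace against the involution `J`
is a virtual character of `H` of norm one congruent to the restriction modulo two.
-/

set_option autoImplicit false
set_option linter.unusedSectionVars false
set_option linter.style.haveILetI false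

namespace Cfsg.Agent.Lib.OddSection

open Cfsg Cfsg.Agent.Lib.Characters Matrix
open scoped ComplexConjugate Kronecker

universe u

/-- Two-sided multiplication. -/
noncomputable def sand {n n' : Type*} [Fintype n] [Fintype n'] (X : Matrix n' n' ℂ)
    (Y : Matrix n n ℂ) : Matrix n' n ℂ →ₗ[ℂ] Matrix n' n ℂ where
  toFun z := X * z * Y
  map_add' a b := by rw [Matrix.mul_add, Matrix.add_mul]
  map_smul' c a := by rw [Matrix.mul_smul, Matrix.smul_mul]; rfl

@[simp] theorem sand_apply {n n' : Type*} [Fintype n] [Fintype n'] (X : Matrix n' n' ℂ)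
    (Y : Matrix n n ℂ) (z : Matrix n' n ℂ) : sand X Y z = X * z * Y := rfl

theorem trace_sand {n n' : Type*} [Fintype n] [Fintype n'] [DecidableEq n] [DecidableEq n']
    (X : Matrix n' n' ℂ) (Y : Matrix n n ℂ) :
    LinearMap.trace ℂ _ (sand X Y) = X.trace * Y.trace := by
  rw [LinearMap.trace_eq_matrix_trace ℂ (Matrix.stdBasis ℂ n' n) (sand X Y), Matrix.trace,
    Matrix.trace, Matrix.trace, Finset.sum_mul_sum, ← Fintype.sum_prod_type']
  refine Finset.sum_congr rfl fun ⟨i, j⟩ _ => ?_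
  simp [LinearMap.toMatrix_apply, Matrix.stdBasis_eq_single, Matrix.stdBasis, Matrix.mul_apply,
    Pi.single_apply, ite_apply, mul_ite, ite_mul]

section Flip

variable {K : Type u} [Group K] [Fintype K] {d : Type*} [Fintype d] [DecidableEq d]
  {R : K →* Matrix d d ℂ} (hR : (mrep R).IsIrreducible)
  {n n' : Type*} [Fintype n] [DecidableEq n] [Fintype n'] [DecidableEq n']
  (M : K →* Matrix n n ℂ) (M' : K →* Matrix n' n' ℂ)
  (π : Matrix d d ℂ →ₐ[ℂ] Matrix n n ℂ) (π' : Matrix d d ℂ →ₐ[ℂ] Matrix n' n' ℂ)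
  (hπ : ∀ k, π (R k) = M k) (hπ' : ∀ k, π' (R k) = M' k)

/-- The eigenspaces of the action on homomorphisms. -/
def InY (l : K →* ℂˣ) (z : Matrix n' n ℂ) : Prop := ∀ k, M' k * z = (l k : ℂ) • (z * M k)

include hπ' in
theorem InY.semi_mul {l m : K →* ℂˣ} {X : Matrix d d ℂ} {z : Matrix n' n ℂ} (hX : Semi R l X)
    (hz : InY M M' m z) : InY M M' (l * m) (π' X * z) := fun k => by
  rw [← Matrix.mul_assoc, ← hπ' k, ← map_mul, hX k, map_smul, map_mul, hπ' k, Matrix.smul_mul,
    Matrix.mul_assoc (π' X), hz k, Matrix.mul_smul, smul_smul, Matrix.mul_assoc, MonoidHom.mul_apply,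
    Units.val_mul]

include hR hπ hπ' in
theorem InY.intertwine {z : Matrix n' n ℂ} (hz : InY M M' 1 z) (X : Matrix d d ℂ) :
    π' X * z = z * π X := by
  let F₁ : Matrix d d ℂ →ₗ[ℂ] Matrix n' n ℂ :=
    { toFun := fun Y => π' Y * z
      map_add' := fun a b => by rw [map_add, Matrix.add_mul]
      map_smul' := fun c a => by rw [map_smul, Matrix.smul_mul]; rfl }
  let F₂ : Matrix d d ℂ →ₗ[ℂ] Matrix n' n ℂ :=
    { toFun := fun Y => z * π Y
      map_add' := fun a b => by rw [map_add, Matrix.mul_add]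
      map_smul' := fun c a => by rw [map_smul, Matrix.mul_smul]; rfl }
  have h : F₁ = F₂ := linearMap_ext_rep hR fun k => by
    show π' (R k) * z = z * π (R k)
    rw [hπ, hπ', hz k, MonoidHom.one_apply, Units.val_one, one_smul]
  exact LinearMap.congr_fun h X

variable {J : Matrix d d ℂ} (hJ2 : J * J = 1)

include hR hπ hπ' hJ2 in
theorem InY.fix {z : Matrix n' n ℂ} (hz : InY M M' 1 z) : π' J * z * π J = z := by
  rw [hz.intertwine hR M M' π π' hπ hπ', Matrix.mul_assoc, ← map_mul, hJ2, map_one, Matrix.mul_one]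

variable {L : Subgroup K} (hJsemi : ∀ (l : dual L) (T : Matrix d d ℂ), Semi R l.1 T → Semi R l.1⁻¹ (J * T * J))

include hR hπ hπ' hJsemi in
/-- The involution inverts the index. -/
theorem InY.flip {f f' : ℕ} {P : Matrix n (Fin f × d) ℂ} {Q : Matrix (Fin f × d) n ℂ}
    {P' : Matrix n' (Fin f' × d) ℂ} {Q' : Matrix (Fin f' × d) n' ℂ}
    (hPQ : P * Q = 1) (hQP : Q * P = 1) (hPQ' : P' * Q' = 1) (hQP' : Q' * P' = 1)
    (hπf : ∀ T, π T = P * ((1 : Matrix (Fin f) (Fin f) ℂ) ⊗ₖ T) * Q)
    (hπf' : ∀ T, π' T = P' * ((1 : Matrix (Fin f') (Fin f') ℂ) ⊗ₖ T) * Q')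
    (l : dual L) {z : Matrix n' n ℂ} (hz : InY M M' l.1 z) :
    InY M M' l.1⁻¹ (π' J * z * π J) := by
  by_cases h0 : z = 0
  · subst h0
    intro k
    simp
  set B := Q' * z * P with hB
  have hB0 : B ≠ 0 := fun h => h0 (by
    have h1 : P' * B * Q = z := by
      simp only [hB, ← Matrix.mul_assoc, hPQ', Matrix.one_mul]
      rw [Matrix.mul_assoc, hPQ, Matrix.mul_one]
    rw [← h1, h, Matrix.mul_zero, Matrix.zero_mul])
  have hBk : ∀ k, copies f' R k * B = (l.1 k : ℂ) • (B * copies f R k) := by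
    intro k
    have h1 : M' k = P' * copies f' R k * Q' := by rw [← hπ' k, hπf']; rfl
    have h2 : M k = P * copies f R k * Q := by rw [← hπ k, hπf]; rfl
    have h := congrArg (fun Z => Q' * Z * P) (hz k)
    simp only [h1, h2, Matrix.mul_smul, Matrix.smul_mul] at h
    simp only [← Matrix.mul_assoc] at h
    rw [hQP', Matrix.one_mul] at h
    simp only [Matrix.mul_assoc] at h
    rw [hQP, Matrix.mul_one] at h
    simpa only [hB, Matrix.mul_assoc] using h
  obtain ⟨i, j, hij⟩ : ∃ i j, B.submatrix (fun a => (i, a)) (fun b => (j, b)) ≠ 0 := by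
    by_contra hcon
    push Not at hcon
    exact hB0 (Matrix.ext fun ⟨i, a⟩ ⟨j, b⟩ => congrFun (congrFun (hcon i j) a) b)
  have hT : Semi R l.1 (B.submatrix (fun a => (i, a)) (fun b => (j, b))) :=
    fun k => block_semicommute (hBk k) i j
  obtain ⟨T, hTe⟩ := hT.isUnit hR hij
  rw [← hTe] at hT
  set z₀ := π' ((T⁻¹ : (Matrix d d ℂ)ˣ) : Matrix d d ℂ) * z with hz₀
  have hz0 : InY M M' 1 z₀ := by
    have h := InY.semi_mul M M' π' hπ' hT.inv hz
    rwa [show l.1⁻¹ * l.1 = 1 from inv_mul_cancel l.1] at h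
  have hzz : z = π' (T : Matrix d d ℂ) * z₀ := by
    rw [hz₀, ← Matrix.mul_assoc, ← map_mul, Units.mul_inv, map_one, Matrix.one_mul]
  have hgoal : π' J * z * π J = π' (J * (T : Matrix d d ℂ) * J) * z₀ := by
    rw [hzz, map_mul, map_mul, Matrix.mul_assoc, Matrix.mul_assoc, ← hz0.intertwine hR M M' π π' hπ hπ',
      Matrix.mul_assoc, Matrix.mul_assoc]
  rw [hgoal]
  have h := InY.semi_mul M M' π' hπ' (hJsemi l _ hT) hz0
  rwa [show l.1⁻¹ * 1 = l.1⁻¹ from mul_one l.1⁻¹] at h

end Flip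

variable {G : Type u} [Group G] [Fintype G] {K : Subgroup G} [K.Normal] [Fintype K]
  {d : Type*} [Fintype d] [DecidableEq d] (R : K →* Matrix d d ℂ) (J : Matrix d d ℂ)
  (H : Subgroup G) [Fintype H]

/-- The data attached to a character over the one afforded by `R`. -/
structure Over (χ : IrrCharacter G) where
  m : ℕ
  M : G →* Matrix (Fin m) (Fin m) ℂ
  tr : ∀ g, (M g).trace = (χ : G → ℂ) g
  f : ℕ
  P : Matrix (Fin m) (Fin f × d) ℂ
  Q : Matrix (Fin f × d) (Fin m) ℂ
  π : Matrix d d ℂ →ₐ[ℂ] Matrix (Fin m) (Fin m) ℂ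
  hPQ : P * Q = 1
  hQP : Q * P = 1
  hπf : ∀ T, π T = P * ((1 : Matrix (Fin f) (Fin f) ℂ) ⊗ₖ T) * Q
  hπ : ∀ k : K, π (R k) = M k
  comm : ∀ h : H, M h * π J = π J * M h

variable {R J H}

/-- The virtual character. -/
noncomputable def Over.delta {χ : IrrCharacter G} (o : Over R J H χ) : H → ℂ :=
  fun h => (o.M h * o.π J).trace

theorem exists_over (hR : (mrep R).IsIrreducible)
    (hθ : ∀ (g : G) (k : K), (R (MulAut.conjNormal g k)).trace = (R k).trace)
    (hJfix : ∀ h ∈ H, ∀ Φ : Matrix d d ℂ →ₐ[ℂ] Matrix d d ℂ,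
      (∀ k, Φ (R k) = R (MulAut.conjNormal h k)) → Φ J = J)
    (χ : IrrCharacter G) (hχ : classInner (fun k : K => (χ : G → ℂ) k) (fun k => (R k).trace) ≠ 0) :
    Nonempty (Over R J H χ) := by
  have hθirr : IsIrrCharacter K (fun k => (R k).trace) :=
    mrep_character R ▸ (haveI := hR; isIrrCharacter_of_rep (mrep R))
  have hres := restrict_eq_smul_of_invariant K χ.2 hθirr (fun g => funext fun k => hθ g k) hχ
  obtain ⟨f, hf⟩ := IsCharacter.exists_classInner_nat (IsCharacter.restrict (irr_isCharacter χ) K)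
    (IsIrrCharacter.isCharacter hθirr)
  rw [hf] at hres
  obtain ⟨m, M, -, hM, -, -⟩ := exists_matrix_rep χ.2
  obtain ⟨P, Q, π, hPQ, hQP, hπf, hπ, -⟩ := exists_isotypic (R := R) (M.comp K.subtype) f fun k => by
    rw [MonoidHom.comp_apply, hM]
    exact congrFun hres k
  refine ⟨⟨m, M, hM, f, P, Q, π, hPQ, hQP, hπf, hπ, fun h => ?_⟩⟩
  obtain ⟨Φ, hΦ⟩ := exists_auto R (MulAut.conjNormal (h : G)) (hθ h)
  have h1 : (sand (M h) (M (h : G)⁻¹)).comp π.toLinearMap = π.toLinearMap.comp Φ.toLinearMap := by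
    refine linearMap_ext_rep hR fun k => ?_
    show M h * π (R k) * M (h : G)⁻¹ = π (Φ (R k))
    rw [hΦ, hπ, hπ]
    show M h * M k * M (h : G)⁻¹ = M ((MulAut.conjNormal (h : G) k : K) : G)
    rw [MulAut.conjNormal_apply, map_mul, map_mul]
  have h2 := LinearMap.congr_fun h1 J
  simp only [LinearMap.comp_apply, AlgHom.toLinearMap_apply, sand_apply, hJfix h h.2 Φ hΦ] at h2
  conv_rhs => rw [← h2]
  rw [mul_assoc (M h * π J), ← map_mul, inv_mul_cancel, map_one, mul_one]

section Delta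

variable (hJ2 : J * J = 1) {χ : IrrCharacter G} (o : Over R J H χ)

include hJ2 in
theorem Over.exists_split : ∃ a b : H → ℂ, IsCharacter H a ∧ IsCharacter H b ∧
    (fun h : H => (χ : G → ℂ) h) = a + b ∧ o.delta = a - b := by
  have hJJ : o.π J * o.π J = 1 := by rw [← map_mul, hJ2, map_one]
  refine ⟨fun h => (o.M h * ((2 : ℂ)⁻¹ • (1 + o.π J))).trace,
    fun h => (o.M h * ((2 : ℂ)⁻¹ • (1 - o.π J))).trace, ?_, ?_, ?_, ?_⟩
  · refine isCharacter_trace_idem (o.M.comp H.subtype) ?_ fun h => ?_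
    · rw [smul_mul_smul_comm, add_mul, mul_add, mul_add, hJJ, one_mul, one_mul, mul_one]
      module
    · simp only [MonoidHom.comp_apply, Subgroup.coe_subtype, mul_smul_comm, smul_mul_assoc, mul_add,
        add_mul, one_mul, mul_one, o.comm]
  · refine isCharacter_trace_idem (o.M.comp H.subtype) ?_ fun h => ?_
    · rw [smul_mul_smul_comm, sub_mul, mul_sub, mul_sub, hJJ, one_mul, one_mul, mul_one]
      module
    · simp only [MonoidHom.comp_apply, Subgroup.coe_subtype, mul_smul_comm, smul_mul_assoc, mul_sub,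
        sub_mul, one_mul, mul_one, o.comm]
  · funext h
    rw [Pi.add_apply, ← o.tr, ← Matrix.trace_add, ← mul_add, ← smul_add]
    congr 1
    rw [show (1 + o.π J) + (1 - o.π J) = (2 : ℂ) • (1 : Matrix (Fin o.m) (Fin o.m) ℂ) by module,
      smul_smul, inv_mul_cancel₀ (two_ne_zero), one_smul, mul_one]
  · funext h
    rw [Pi.sub_apply, ← Matrix.trace_sub, ← mul_sub, ← smul_sub, Over.delta]
    congr 2
    module

include hJ2 in
theorem Over.isGeneralized : IsGeneralizedCharacter H o.delta := by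
  obtain ⟨a, b, ha, hb, -, h⟩ := o.exists_split hJ2
  rw [h]
  exact IsGeneralizedCharacter.sub (IsCharacter.isGeneralizedCharacter ha)
    (IsCharacter.isGeneralizedCharacter hb)

end Delta

variable (hR : (mrep R).IsIrreducible) (hodd : Odd (Nat.card G))
  {L : Subgroup K} [L.Normal] (hab : ∀ a b : K ⧸ L, a * b = b * a)
  (hLg : ∀ (g : G), ∀ x ∈ L, MulAut.conjNormal g x ∈ L) (hLH : ∀ x ∈ L, (x : G) ∈ H)
  (hKH : ∀ g : G, ∃ h ∈ H, ∃ k ∈ K, g = h * k)
  (hJ2 : J * J = 1)
  (hJsemi : ∀ (l : dual L) (T : Matrix d d ℂ), Semi R l.1 T → Semi R l.1⁻¹ (J * T * J))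

include hR hodd hab hLg hLH hKH hJ2 hJsemi in
/-- Orthonormality of the virtual characters. -/
theorem Over.classInner_delta {χ χ' : IrrCharacter G} [Decidable (χ' = χ)] (o : Over R J H χ)
    (o' : Over R J H χ') : classInner o'.delta o.delta = if χ' = χ then 1 else 0 := by
  classical
  haveI : Fintype (dual L) := Fintype.ofFinite _
  have hK0 : (Nat.card K : ℂ) ≠ 0 := Nat.cast_ne_zero.2 Nat.card_pos.ne'
  set MK := o.M.comp K.subtype with hMK
  set MK' := o'.M.comp K.subtype with hMK'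
  let T : H → Module.End ℂ (Matrix (Fin o'.m) (Fin o.m) ℂ) := fun h =>
    sand (o'.M h * o'.π J) (o.π J * o.M (h : G)⁻¹)
  let ρ : G → Module.End ℂ (Matrix (Fin o'.m) (Fin o.m) ℂ) := fun g => sand (o'.M g) (o.M g⁻¹)
  let Pr : dual L → Module.End ℂ (Matrix (Fin o'.m) (Fin o.m) ℂ) := fun l =>
    (Nat.card K : ℂ)⁻¹ • ∑ k : K, ((l.1 k)⁻¹ : ℂˣ).val • ρ k
  have hρapp : ∀ g z, ρ g z = o'.M g * z * o.M g⁻¹ := fun _ _ => rfl
  have hPr_mem : ∀ (l : dual L) w, InY MK MK' l.1 (Pr l w) := by
    intro l w j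
    simp only [Pr, LinearMap.smul_apply, LinearMap.sum_apply, Matrix.mul_smul, Matrix.smul_mul,
      Matrix.mul_sum, Matrix.sum_mul, Finset.smul_sum, smul_smul]
    refine Fintype.sum_equiv (Equiv.mulLeft j) _ _ fun k => ?_
    simp only [Equiv.coe_mulLeft, hρapp, hMK, hMK', MonoidHom.comp_apply, Subgroup.coe_subtype,
      Subgroup.coe_mul, map_mul, _root_.mul_inv_rev, Matrix.mul_assoc]
    rw [← map_mul o.M (j : G)⁻¹ (j : G), inv_mul_cancel, map_one, Matrix.mul_one]
    congr 1
    simp only [mul_inv, Units.val_mul, Units.val_inv_eq_inv_val]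
    field_simp
  have hPr_app : ∀ (l : dual L) (μ : K →* ℂˣ) z, InY MK MK' μ z →
      Pr l z = ((Nat.card K : ℂ)⁻¹ * ∑ k : K, ((l.1⁻¹ * μ) k : ℂ)) • z := by
    intro l μ z hz
    simp only [Pr, LinearMap.smul_apply, LinearMap.sum_apply, hρapp, mul_smul, Finset.sum_smul]
    congr 1
    refine Finset.sum_congr rfl fun k _ => ?_
    rw [show o'.M k * z = MK' k * z from rfl, hz k, Matrix.smul_mul, Matrix.mul_assoc,
      show MK k * o.M (k : G)⁻¹ = 1 by
        rw [hMK, MonoidHom.comp_apply, Subgroup.coe_subtype, ← map_mul, mul_inv_cancel, map_one],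
      Matrix.mul_one, smul_smul, MonoidHom.mul_apply, MonoidHom.inv_apply, Units.val_mul]
  have hPr_fix : ∀ (l : dual L) z, InY MK MK' l.1 z → Pr l z = z := fun l z hz => by
    rw [hPr_app l l.1 z hz, show l.1⁻¹ * l.1 = 1 from inv_mul_cancel l.1]
    simp [hK0]
  have hPr_idem : ∀ l, Pr l * Pr l = Pr l := fun l => LinearMap.ext fun w => by
    rw [Module.End.mul_apply, hPr_fix l _ (hPr_mem l w)]
  have hflip : ∀ (l : dual L) z, InY MK MK' l.1 z → InY MK MK' l.1⁻¹ (o'.π J * z * o.π J) :=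
    fun l z hz => InY.flip hR MK MK' o.π o'.π o.hπ o'.hπ hJsemi o.hPQ o.hQP o'.hPQ o'.hQP
      o.hπf o'.hπf l hz
  have hTapp : ∀ h z, T h z = o'.M h * (o'.π J * z * o.π J) * o.M (h : G)⁻¹ := fun h z => by
    simp only [T, sand_apply, Matrix.mul_assoc]
  -- the nontrivial eigenspaces contribute nothing
  have hzero : ∀ (l : dual L), l ≠ 1 → ∀ h, LinearMap.trace ℂ _ (T h * Pr l) = 0 := by
    intro l hl h
    set u : MulAut K := MulAut.conjNormal (h : G) with hu
    set μ : K →* ℂˣ := l.1⁻¹.comp u.symm.toMonoidHom with hμ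
    have hne : l.1⁻¹ * μ ≠ 1 := by
      intro heq
      have he : μ = l.1 := inv_mul_eq_one.1 heq |>.symm
      refine hl (Subtype.ext (MonoidHom.ext fun k => ?_))
      have hs : ∀ k, l.1 (u k) = (l.1 k)⁻¹ := fun k => by
        have h1 := DFunLike.congr_fun he (u k)
        simp [hμ] at h1
        exact h1.symm
      have hpow : ∀ i : ℕ, ∀ k, l.1 ((u ^ i) k) = if Even i then l.1 k else (l.1 k)⁻¹ := by
        intro i
        induction i with
        | zero => simp
        | succ i ih =>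
          intro k
          rw [pow_succ', MulAut.mul_apply, hs, ih]
          by_cases hi : Even i
          · rw [if_pos hi, if_neg (by simpa [Nat.even_add_one] using hi)]
          · rw [if_neg hi, if_pos (by simpa [Nat.even_add_one] using hi), inv_inv]
      have h1 := hpow (Nat.card G) k
      rw [hu, ← map_pow, pow_card_eq_one', map_one, MulAut.one_apply,
        if_neg (Nat.not_even_iff_odd.2 hodd)] at h1
      have h2 : l.1 k ^ 2 = 1 := by
        rw [pow_two]
        nth_rw 2 [h1]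
        exact mul_inv_cancel _
      have hoddK : Odd (Nat.card K) := hodd.of_dvd_nat (Subgroup.card_subgroup_dvd_card K)
      have h3 : l.1 k ^ Nat.card K = 1 := by rw [← map_pow, pow_card_eq_one', map_one]
      have h4 := pow_gcd_eq_one.mpr ⟨h2, h3⟩
      rw [(Nat.coprime_two_left.2 hoddK).gcd_eq_one, pow_one] at h4
      exact h4
    have hPTP : Pr l * T h * Pr l = 0 := LinearMap.ext fun w => by
      rw [Module.End.mul_apply, Module.End.mul_apply, hTapp]
      have hz := hflip l _ (hPr_mem l w)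
      have hμz : InY MK MK' μ (o'.M h * (o'.π J * Pr l w * o.π J) * o.M (h : G)⁻¹) := by
        intro k
        obtain ⟨j, rfl⟩ := u.surjective k
        have hj := hz j
        have hμj : μ (u j) = l.1⁻¹ j := by simp [hμ]
        have hcu : ((u j : K) : G) = h * j * (h : G)⁻¹ := MulAut.conjNormal_apply _ _
        rw [hμj]
        simp only [hMK, hMK', MonoidHom.comp_apply, Subgroup.coe_subtype] at hj ⊢
        have e1 : o'.M ((h : G) * j * (h : G)⁻¹) * o'.M h = o'.M h * o'.M j := by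
          rw [← map_mul, ← map_mul, inv_mul_cancel_right]
        have e2 : o.M (h : G)⁻¹ * o.M ((h : G) * j * (h : G)⁻¹) = o.M j * o.M (h : G)⁻¹ := by
          rw [← map_mul, ← map_mul]
          group
        rw [hcu, ← Matrix.mul_assoc, ← Matrix.mul_assoc, e1, Matrix.mul_assoc (o'.M (h : G)), hj,
          Matrix.mul_assoc _ (o.M (h : G)⁻¹), e2]
        simp only [Matrix.mul_smul, Matrix.smul_mul, Matrix.mul_assoc]
      rw [hPr_app l μ _ hμz, sum_hom_eq_zero hne, mul_zero, zero_smul, LinearMap.zero_apply]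
    rw [← hPr_idem l, ← mul_assoc, LinearMap.trace_mul_comm, ← mul_assoc, hPTP, map_zero]
  -- the trivial one
  have hone : ∀ h, LinearMap.trace ℂ _ (T h * Pr 1) =
      (Nat.card K : ℂ)⁻¹ * ∑ k : K, (χ' : G → ℂ) ((h : G) * k) * conj ((χ : G → ℂ) ((h : G) * k)) := by
    intro h
    have he : T h * Pr 1 = (Nat.card K : ℂ)⁻¹ • ∑ k : K, ρ ((h : G) * k) := by
      refine LinearMap.ext fun w => ?_
      rw [Module.End.mul_apply, hTapp, InY.fix hR MK MK' o.π o'.π o.hπ o'.hπ hJ2 (hPr_mem 1 w)]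
      simp only [Pr, LinearMap.smul_apply, LinearMap.sum_apply, hρapp, OneMemClass.coe_one,
        MonoidHom.one_apply, inv_one, Units.val_one, one_smul, Matrix.mul_smul, Matrix.smul_mul,
        Matrix.mul_sum, Matrix.sum_mul]
      congr 1
      exact Finset.sum_congr rfl fun k _ => by
        simp only [_root_.mul_inv_rev, map_mul, Matrix.mul_assoc]
    rw [he, map_smul, map_sum, smul_eq_mul]
    congr 1
    refine Finset.sum_congr rfl fun k _ => ?_
    rw [trace_sand, o'.tr, o.tr, IsCharacter.apply_inv (irr_isCharacter χ)]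
  -- averaging over `L`
  have hsum : ∑ h, T h = (∑ h, T h) * ∑ l, Pr l := by
    have h1 : ∑ l, Pr l = ((Nat.card K : ℂ)⁻¹ * L.index) • ∑ x : L, ρ ((x : K) : G) := by
      simp only [Pr]
      rw [← Finset.smul_sum, Finset.sum_comm, mul_smul, Finset.smul_sum (r := (L.index : ℂ))]
      congr 1
      rw [Finset.sum_congr rfl fun (k : K) _ => (Finset.sum_smul ..).symm,
        Finset.sum_congr rfl fun (k : K) _ => congrArg (· • ρ k) (show ∑ l : dual L, ((l.1 k)⁻¹ : ℂˣ).val =
          if k ∈ L then (L.index : ℂ) else 0 by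
            rw [Finset.sum_congr rfl fun (l : dual L) _ => show ((l.1 k)⁻¹ : ℂˣ).val = (l.1 k⁻¹ : ℂ) by
              rw [map_inv], sum_dual L hab]
            simp only [inv_mem_iff])]
      simp only [ite_smul, zero_smul]
      rw [← Finset.sum_filter, Finset.sum_subtype (p := fun k => k ∈ L) _ (fun k => by simp)]
    have h2 : ∀ x : L, (∑ h, T h) * ρ ((x : K) : G) = ∑ h, T h := by
      intro x
      rw [Finset.sum_mul]
      refine Fintype.sum_equiv (Equiv.mulRight ⟨_, hLH x x.2⟩) _ _ fun h => LinearMap.ext fun z => ?_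
      have hx := o.comm ⟨_, hLH x x.2⟩
      have hx' := o'.comm ⟨_, hLH x x.2⟩
      have hxi := o.comm ⟨_, H.inv_mem (hLH x x.2)⟩
      simp only [Equiv.coe_mulRight, Module.End.mul_apply, T, sand_apply, hρapp, Subgroup.coe_mul, map_mul,
        _root_.mul_inv_rev] at hx hx' hxi ⊢
      simp only [Matrix.mul_assoc]
      rw [← Matrix.mul_assoc (o'.π J) (o'.M _), ← hx', ← Matrix.mul_assoc (o.M ((x : K) : G)⁻¹) (o.π J), hxi]
      simp only [Matrix.mul_assoc]
    rw [h1, mul_smul_comm, Finset.mul_sum, Finset.sum_congr rfl fun x _ => h2 x, Finset.sum_const,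
      ← Nat.cast_smul_eq_nsmul ℂ, smul_smul, Finset.card_univ, ← Nat.card_eq_fintype_card, mul_assoc,
      ← Nat.cast_mul, L.index_mul_card, inv_mul_cancel₀ hK0, one_smul]
  have hfib : ∀ F : G → ℂ, ∑ h : H, ∑ k : K, F ((h : G) * k) =
      (Nat.card {p : H × K // (p.1 : G) * p.2 = 1} : ℂ) * ∑ g, F g := by
    intro F
    rw [← Fintype.sum_prod_type', ← Finset.sum_fiberwise Finset.univ (fun p : H × K => (p.1 : G) * p.2),
      Finset.mul_sum]
    refine Finset.sum_congr rfl fun g _ => ?_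
    rw [Finset.sum_congr rfl fun p hp => congrArg F (Finset.mem_filter.1 hp).2, Finset.sum_const,
      nsmul_eq_mul, ← Fintype.card_subtype, ← Nat.card_eq_fintype_card]
    congr 2
    obtain ⟨a, ha, b, hb, rfl⟩ := hKH g
    exact Nat.card_congr (Equiv.subtypeEquiv
      ((Equiv.mulLeft (⟨a, ha⟩ : H)⁻¹).prodCongr (Equiv.mulRight (⟨b, hb⟩ : K)⁻¹)) fun p => by
      simp only [Equiv.prodCongr_apply, Prod.map, Equiv.coe_mulLeft, Equiv.coe_mulRight, Subgroup.coe_mul,
        Subgroup.coe_inv]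
      constructor
      · intro h
        rw [show (a : G)⁻¹ * (p.1 : G) * ((p.2 : G) * b⁻¹) = a⁻¹ * ((p.1 : G) * p.2) * b⁻¹ by group, h]
        group
      · intro h
        rw [show (p.1 : G) * p.2 = a * ((a : G)⁻¹ * (p.1 : G) * ((p.2 : G) * b⁻¹)) * b by group, h]
        group)
  have hN := hfib fun _ => 1
  simp only [Finset.sum_const, Finset.card_univ, nsmul_eq_mul, mul_one, ← Nat.card_eq_fintype_card] at hN
  have hkey : ∑ h : H, o'.delta h * conj (o.delta h) = (Nat.card H : ℂ) * if χ' = χ then 1 else 0 := by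
    have h1 : ∀ h : H, o'.delta h * conj (o.delta h) = LinearMap.trace ℂ _ (T h) := fun h => by
      rw [trace_sand, ← IsGeneralizedCharacter.apply_inv (o.isGeneralized hJ2)]
      simp only [Over.delta, Subgroup.coe_inv, Matrix.trace_mul_comm (o.π J)]
    rw [Finset.sum_congr rfl fun h _ => h1 h, ← map_sum, hsum, Finset.mul_sum, map_sum,
      Finset.sum_eq_single 1 (fun l _ hl => by
        rw [Finset.sum_mul, map_sum, Finset.sum_eq_zero fun h _ => hzero l hl h]) (by simp),
      Finset.sum_mul, map_sum, Finset.sum_congr rfl fun h _ => hone h, ← Finset.mul_sum,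
      hfib fun g => (χ' : G → ℂ) g * conj ((χ : G → ℂ) g)]
    have h2 := classInner_irr χ' χ
    rw [classInner, inv_mul_eq_iff_eq_mul₀ natCard_ne_zero_complex] at h2
    rw [h2, ← mul_assoc, ← mul_assoc, mul_assoc _ _ (Nat.card G : ℂ), ← hN]
    congr 1
    · field_simp
    · split_ifs <;> rfl
  rw [classInner, hkey, inv_mul_cancel_left₀ natCard_ne_zero_complex]

include hR in
/-- The sum over the characters above `θ`. -/
theorem exists_delta_ne_zero (hint : ∀ k : K, (k : G) ∈ H → k ∈ L) (hLH : ∀ x ∈ L, (x : G) ∈ H)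
    (hθ : ∀ (g : G) (k : K), (R (MulAut.conjNormal g k)).trace = (R k).trace)
    (hJfix : ∀ h ∈ H, ∀ Φ : Matrix d d ℂ →ₐ[ℂ] Matrix d d ℂ,
      (∀ k, Φ (R k) = R (MulAut.conjNormal h k)) → Φ J = J)
    (ν : L → ℂ) {c : ℂ} (hc : c ≠ 0) (hJtr : ∀ x : L, (R x * J).trace = c * ν x)
    [Fintype L] (ψ : IrrCharacter H)
    (hψ : ∑ x : L, ν x * conj ((ψ : H → ℂ) ⟨_, hLH x x.2⟩) ≠ 0) :
    ∃ (χ : IrrCharacter G) (o : Over R J H χ),
      classInner (fun k : K => (χ : G → ℂ) k) (fun k => (R k).trace) ≠ 0 ∧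
        classInner o.delta (ψ : H → ℂ) ≠ 0 := by
  classical
  haveI := Fintype.ofFinite (IrrCharacter G)
  set θ := fun k : K => (R k).trace with hθd
  have hθc : IsCharacter K θ := isCharacter_trace R
  have hθirr : IsIrrCharacter K θ := by
    haveI := hR
    rw [hθd, ← mrep_character R]
    exact isIrrCharacter_of_rep (mrep R)
  set F := indFun K θ with hF
  have hFc : IsClassFunction G F := isClassFunction_indFun K θ
  have hcoef : ∀ χ : IrrCharacter G, classInner (fun k : K => (χ : G → ℂ) k) θ = 0 →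
      classInner F (χ : G → ℂ) = 0 := fun χ h => by
    rw [hF, classInner_indFun K θ (irr_isClassFunction χ), ← classInner_conj_symm, h, map_zero]
  let D : IrrCharacter G → H → ℂ := fun χ h =>
    if hx : classInner (fun k : K => (χ : G → ℂ) k) θ ≠ 0
      then (exists_over hR hθ hJfix χ hx).some.delta h else 0
  set a : K → ℂ := fun k => (Fintype.card d : ℂ) / (Fintype.card K : ℂ) * (J * R k⁻¹).trace with ha
  have hJexp : J = ∑ k, a k • R k := by
    conv_lhs => rw [eq_sum_trace hR J, Finset.smul_sum]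
    simp [ha, smul_smul]
  have hD : ∀ (χ : IrrCharacter G) (h : H),
      classInner F (χ : G → ℂ) * D χ h =
        classInner F (χ : G → ℂ) * ∑ k : K, a k * (χ : G → ℂ) ((h : G) * k) := by
    intro χ h
    by_cases hx : classInner (fun k : K => (χ : G → ℂ) k) θ = 0
    · rw [hcoef χ hx, zero_mul, zero_mul]
    congr 1
    simp only [D, dif_pos hx, Over.delta]
    generalize (exists_over hR hθ hJfix χ hx).some = o
    rw [congrArg (fun Z => (o.M (h : G) * o.π Z).trace) hJexp]
    simp [Finset.mul_sum, Matrix.trace_sum, ← map_mul, Over.hπ, Over.tr]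
  have hFk : ∀ k : K, F k = (Nat.card K : ℂ)⁻¹ * (Nat.card G : ℂ) * θ k := fun k => by
    have := congrFun (indFun_restrict K θ) k
    rw [← hF] at this
    rw [this, Pi.smul_apply, Finset.sum_apply, smul_eq_mul, Finset.sum_congr rfl fun x _ =>
      show conjFun K x θ k = θ k from hθ x k, Finset.sum_const, Finset.card_univ, nsmul_eq_mul,
      ← Nat.card_eq_fintype_card, mul_assoc]
  set r := (Nat.card K : ℂ)⁻¹ * (Nat.card G : ℂ) * c with hr
  have hE : ∑ χ : IrrCharacter G, classInner F (χ : G → ℂ) • D χ =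
      fun h : H => if hk : ((h : G) ∈ K) then r * ν ⟨⟨h, hk⟩, hint ⟨h, hk⟩ h.2⟩ else 0 := by
    funext h
    simp only [Finset.sum_apply, Pi.smul_apply, smul_eq_mul, hD, Finset.mul_sum]
    rw [Finset.sum_comm]
    have h1 : ∀ g, ∑ χ : IrrCharacter G, classInner F (χ : G → ℂ) * (χ : G → ℂ) g = F g := fun g => by
      conv_rhs => rw [eq_sum_classInner hFc]
      simp [Finset.sum_apply]
    rw [Finset.sum_congr rfl fun k _ => show (∑ χ : IrrCharacter G, classInner F (χ : G → ℂ) *
        (a k * (χ : G → ℂ) ((h : G) * k))) = a k * F ((h : G) * k) by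
      rw [← h1, Finset.mul_sum]
      exact Finset.sum_congr rfl fun χ _ => by ring]
    split_ifs with hk
    · set x : L := ⟨⟨h, hk⟩, hint ⟨h, hk⟩ h.2⟩ with hx
      rw [hr, mul_assoc _ c, ← hJtr x]
      conv_rhs => rw [hJexp]
      simp only [Finset.mul_sum, Matrix.trace_sum, mul_smul_comm, Matrix.trace_smul, smul_eq_mul]
      refine Finset.sum_congr rfl fun k _ => ?_
      rw [← map_mul, show (h : G) * k = (((x : K) * k : K) : G) from rfl, hFk]
      simp only [hθd]
      ring
    · refine Finset.sum_eq_zero fun k _ => ?_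
      rw [hF, indFun_vanish K θ fun hm => hk ((K.mul_mem_cancel_right k.2).1 hm), mul_zero]
  have hne : classInner (∑ χ : IrrCharacter G, classInner F (χ : G → ℂ) • D χ) (ψ : H → ℂ) ≠ 0 := by
    rw [hE, classInner]
    refine mul_ne_zero (inv_ne_zero natCard_ne_zero_complex) ?_
    let e : L ≃ {h : H // (h : G) ∈ K} :=
      { toFun := fun x => ⟨⟨_, hLH x x.2⟩, (x : K).2⟩
        invFun := fun h => ⟨⟨h.1, h.2⟩, hint ⟨h.1, h.2⟩ h.1.2⟩
        left_inv := fun x => rfl
        right_inv := fun h => rfl }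
    rw [Finset.sum_congr rfl fun h _ => dite_mul .., Finset.sum_congr rfl fun h _ => by rw [zero_mul],
      ← Finset.sum_subset (Finset.subset_univ (Finset.univ.filter fun h : H => (h : G) ∈ K))
        (fun h _ hh => dif_neg (by simpa using hh)),
      Finset.sum_subtype (p := fun h : H => (h : G) ∈ K) _ (fun h => by simp),
      ← Fintype.sum_equiv e (fun x => r * (ν x * conj ((ψ : H → ℂ) ⟨_, hLH x x.2⟩))) _ (fun x => by
        rw [dif_pos (e x).2, ← mul_assoc]
        rfl), ← Finset.mul_sum]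
    exact mul_ne_zero (mul_ne_zero (mul_ne_zero (inv_ne_zero natCard_ne_zero_complex)
      natCard_ne_zero_complex) hc) hψ
  rw [classInner_sum_left] at hne
  obtain ⟨χ, -, hχ⟩ := Finset.exists_ne_zero_of_sum_ne_zero hne
  rw [classInner_smul_left, mul_ne_zero_iff] at hχ
  have hx : classInner (fun k : K => (χ : G → ℂ) k) θ ≠ 0 := fun h => hχ.1 (hcoef χ h)
  refine ⟨χ, (exists_over hR hθ hJfix χ hx).some, hx, ?_⟩
  have hDe : D χ = (exists_over hR hθ hJfix χ hx).some.delta := funext fun h => dif_pos hx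
  rw [← hDe]
  exact hχ.2

end Cfsg.Agent.Lib.OddSection
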