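import Cfsg.Agent.Lib.OddSection.Core
import Cfsg.Agent.Lib.Glauberman.Relative
import Cfsg.Agent.Lib.Glauberman.AboveAbelian

/-!
# The correspondence over an invariant character of the bottom of a section

A coprime group of operators without fixed points on the abelian section `K / L` fixes exactly one
character of `K` over an invariant character of `L`; the characters above it correspond to the
characters of a supplement meeting `K` in `L`.
-/

set_option autoImplicit false
set_option linter.unusedSectionVars false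
set_option linter.style.haveILetI false

namespace Cfsg.Agent.Lib.OddSection

open Cfsg Cfsg.Agent.Lib.Characters
open Cfsg.Agent.Lib.Glauberman (IsInv restrictAct restrictAct_apply quotAct quotAct_mk
  transIrr_eq_self_iff exists_fixed_of_abelian exists_twist_of_classInner)
open Cfsg.Agent.Lib.BrauerPairs (transIrr transIrr_apply)
open Cfsg.Agent.Lib.BlockHeights (twistIrr twistIrr_apply)
open scoped ComplexConjugate

universe u v

/-- The multiplicity of `ψ` in the restriction of `χ` is odd. -/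
def OddMult {G : Type u} [Group G] (H : Subgroup G) [Fintype H] (χ : G → ℂ) (ψ : H → ℂ) : Prop :=
  ∃ m : ℕ, classInner (fun h : H => χ h) ψ = (m : ℂ) ∧ Odd m

section Parity

variable {G : Type u} [Group G] [Fintype G] {K : Subgroup G} [K.Normal] [Fintype K]
  {d : Type*} [Fintype d] [DecidableEq d] {R : K →* Matrix d d ℂ} {J : Matrix d d ℂ}
  {H : Subgroup G} [Fintype H] {χ : IrrCharacter G} (o : Over R J H χ)

/-- The constituent of odd multiplicity is the constituent of the virtual character. -/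
theorem Over.parity (hJ2 : J * J = 1) (h1 : classInner o.delta o.delta = 1) :
    ∃ ψ₀ : IrrCharacter H, OddMult H (χ : G → ℂ) (ψ₀ : H → ℂ) ∧
      (∀ ψ : IrrCharacter H, OddMult H (χ : G → ℂ) (ψ : H → ℂ) → ψ = ψ₀) ∧
      (o.delta = (ψ₀ : H → ℂ) ∨ o.delta = -(ψ₀ : H → ℂ)) := by
  classical
  obtain ⟨ψ₀, hψ₀⟩ := IsGeneralizedCharacter.eq_pm_irr (o.isGeneralized hJ2) h1
  obtain ⟨a, b, ha, hb, hres, hdel⟩ := o.exists_split hJ2
  have key : ∀ ψ : IrrCharacter H, OddMult H (χ : G → ℂ) (ψ : H → ℂ) ↔ ψ = ψ₀ := by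
    intro ψ
    obtain ⟨na, hna⟩ := IsCharacter.exists_classInner_nat ha (irr_isCharacter ψ)
    obtain ⟨nb, hnb⟩ := IsCharacter.exists_classInner_nat hb (irr_isCharacter ψ)
    have hsum : classInner (fun h : H => (χ : G → ℂ) h) (ψ : H → ℂ) = ((na + nb : ℕ) : ℂ) := by
      rw [hres, classInner_add_left, hna, hnb, Nat.cast_add]
    have hodd : OddMult H (χ : G → ℂ) (ψ : H → ℂ) ↔ Odd (na + nb) := by
      refine ⟨?_, fun h => ⟨_, hsum, h⟩⟩
      rintro ⟨m, hm, hm'⟩
      rw [hsum, Nat.cast_inj] at hm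
      rwa [hm]
    have hdif : classInner o.delta (ψ : H → ℂ) = (na : ℂ) - nb := by
      rw [hdel, classInner_sub_left, hna, hnb]
    rw [hodd]
    by_cases he : ψ = ψ₀
    · subst he
      refine iff_of_true ?_ rfl
      rcases hψ₀ with h | h
      · rw [h, IsIrrCharacter.classInner_self ψ.2, eq_sub_iff_add_eq] at hdif
        have h2 : 1 + nb = na := by exact_mod_cast hdif
        exact ⟨nb, by omega⟩
      · rw [h, classInner_neg_left, IsIrrCharacter.classInner_self ψ.2, eq_sub_iff_add_eq,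
          neg_add_eq_iff_eq_add] at hdif
        have h2 : nb = 1 + na := by exact_mod_cast hdif
        exact ⟨na, by omega⟩
    · refine iff_of_false ?_ he
      have h0 : classInner (ψ₀ : H → ℂ) (ψ : H → ℂ) = 0 := by
        rw [classInner_irr, if_neg (Ne.symm he)]
      have h2 : (na : ℂ) = nb := by
        refine sub_eq_zero.1 ?_
        rw [← hdif]
        rcases hψ₀ with h | h
        · rw [h, h0]
        · rw [h, classInner_neg_left, h0, neg_zero]
      rw [Nat.cast_inj] at h2
      rw [h2, Nat.not_odd_iff_even]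
      exact ⟨nb, rfl⟩
  exact ⟨ψ₀, (key ψ₀).2 rfl, fun ψ h => (key ψ).1 h, hψ₀⟩

end Parity

set_option maxHeartbeats 800000 in
/-- The correspondence over an invariant character of `L`. -/
theorem correspondence_over {G : Type u} [Group G] [Fintype G] (hodd : Odd (Nat.card G))
    {A : Type v} [Group A] [Finite A] (hcop : (Nat.card G).Coprime (Nat.card A))
    (act : A →* MulAut G) (K L H : Subgroup G) [K.Normal] [L.Normal] [Fintype L] [Fintype H]
    (hLK : L ≤ K) (hLH : L ≤ H) (hK : ∀ a, ∀ k ∈ K, act a k ∈ K) (hL : ∀ a, ∀ x ∈ L, act a x ∈ L)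
    (hab : ∀ a ∈ K, ∀ b ∈ K, a * b * a⁻¹ * b⁻¹ ∈ L)
    (hfix : ∀ k ∈ K, (∀ a, act a k * k⁻¹ ∈ L) → k ∈ L)
    (hH : ∀ h ∈ H, ∃ x ∈ L, ∃ c, (∀ a, act a c = c) ∧ h = x * c)
    (hG : ∀ g : G, ∃ h ∈ H, ∃ k ∈ K, g = h * k)
    (ν : IrrCharacter L) (hνG : ∀ g, conjFun L g (ν : L → ℂ) = (ν : L → ℂ))
    (hνA : ∀ a, ∀ x y : L, (y : G) = act a x → (ν : L → ℂ) y = (ν : L → ℂ) x) :
    (∀ χ : IrrCharacter G, IsInv act (χ : G → ℂ) →
      classInner (fun x : L => (χ : G → ℂ) x) (ν : L → ℂ) ≠ 0 →
      ∃ ψ : IrrCharacter H,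
        (∀ a, ∀ h h' : H, (h' : G) = act a h → (ψ : H → ℂ) h' = (ψ : H → ℂ) h) ∧
        classInner (fun x : L => (ψ : H → ℂ) ⟨x, hLH x.2⟩) (ν : L → ℂ) ≠ 0 ∧
        OddMult H (χ : G → ℂ) (ψ : H → ℂ) ∧
        ∀ ψ' : IrrCharacter H, OddMult H (χ : G → ℂ) (ψ' : H → ℂ) → ψ' = ψ) ∧
    (∀ χ χ' : IrrCharacter G, IsInv act (χ : G → ℂ) → IsInv act (χ' : G → ℂ) →
      classInner (fun x : L => (χ : G → ℂ) x) (ν : L → ℂ) ≠ 0 →
      classInner (fun x : L => (χ' : G → ℂ) x) (ν : L → ℂ) ≠ 0 →
      ∀ ψ : IrrCharacter H, OddMult H (χ : G → ℂ) (ψ : H → ℂ) →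
        OddMult H (χ' : G → ℂ) (ψ : H → ℂ) → χ = χ') ∧
    (∀ ψ : IrrCharacter H,
      (∀ a, ∀ h h' : H, (h' : G) = act a h → (ψ : H → ℂ) h' = (ψ : H → ℂ) h) →
      classInner (fun x : L => (ψ : H → ℂ) ⟨x, hLH x.2⟩) (ν : L → ℂ) ≠ 0 →
      ∃ χ : IrrCharacter G, IsInv act (χ : G → ℂ) ∧
        classInner (fun x : L => (χ : G → ℂ) x) (ν : L → ℂ) ≠ 0 ∧
        OddMult H (χ : G → ℂ) (ψ : H → ℂ)) := by
  classical
  haveI := Fintype.ofFinite A
  haveI : Fintype K := Fintype.ofFinite _
  let uA : A →* MulAut K := restrictAct act K hK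
  let L' : Subgroup K := L.subgroupOf K
  haveI : L'.Normal := Subgroup.Normal.subgroupOf inferInstance K
  haveI : Fintype L' := Fintype.ofFinite _
  have hL' : ∀ a, ∀ x ∈ L', uA a x ∈ L' := fun a x hx => hL a _ hx
  have hL's : ∀ a, ∀ x ∈ L', (uA a).symm x ∈ L' := fun a x hx => hL a⁻¹ _ hx
  have hLg : ∀ g : G, ∀ x ∈ L', MulAut.conjNormal g x ∈ L' := fun g x hx => by
    show ((MulAut.conjNormal g x : K) : G) ∈ L
    rw [MulAut.conjNormal_apply]
    exact (inferInstance : L.Normal).conj_mem _ hx g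
  have hab' : ∀ a b : K ⧸ L', a * b = b * a := fun x y => by
    obtain ⟨a, rfl⟩ := QuotientGroup.mk_surjective x
    obtain ⟨b, rfl⟩ := QuotientGroup.mk_surjective y
    rw [← QuotientGroup.mk_mul, ← QuotientGroup.mk_mul, QuotientGroup.eq]
    show (((a * b)⁻¹ * (b * a) : K) : G) ∈ L
    have h := hab (b : G)⁻¹ (K.inv_mem b.2) (a : G)⁻¹ (K.inv_mem a.2)
    simpa [mul_assoc] using h
  have hcK : (Nat.card K).Coprime (Nat.card A) :=
    hcop.coprime_dvd_left (Subgroup.card_subgroup_dvd_card K)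
  -- no fixed linear character
  letI : CommGroup (K ⧸ L') := { (inferInstance : Group (K ⧸ L')) with mul_comm := hab' }
  have hdual : ∀ l : dual L', (∀ a x, l.1 (uA a x) = l.1 x) → l = 1 := by
    intro l hl
    refine Subtype.ext (MonoidHom.ext fun k => ?_)
    refine (mem_of_moves (quotAct uA L' hL') (hcK.coprime_dvd_left L'.card_quotient_dvd_card) ?_
      (QuotientGroup.lift L' l.1 fun x hx => l.2 x hx).ker (v := (k : K ⧸ L')) fun a => ?_ : _)
    · intro v hv
      obtain ⟨j, rfl⟩ := QuotientGroup.mk_surjective v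
      rw [QuotientGroup.eq_one_iff]
      refine hfix j j.2 fun a => ?_
      have h := hv a
      rw [quotAct_mk, ← mul_inv_eq_one, ← QuotientGroup.mk_inv, ← QuotientGroup.mk_mul,
        QuotientGroup.eq_one_iff] at h
      exact h
    · rw [MonoidHom.mem_ker, quotAct_mk, map_mul, map_inv]
      show l.1 k * (l.1 (uA a k))⁻¹ = 1
      rw [hl, mul_inv_cancel]
  -- the character of `L'`
  let i : L' ≃* L := Subgroup.subgroupOfEquivOfLe hLK
  let ν' : IrrCharacter L' := transIrr i.symm ν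
  have hν' : ∀ x : L', (ν' : L' → ℂ) x = (ν : L → ℂ) (i x) := fun x => rfl
  have hν'K : ∀ k : K, conjFun L' k (ν' : L' → ℂ) = (ν' : L' → ℂ) := fun k => funext fun x => by
    show (ν : L → ℂ) _ = (ν : L → ℂ) _
    exact congrFun (hνG k) (i x)
  have hinner : ∀ f : G → ℂ, classInner (fun x : L' => f ((x : K) : G)) (ν' : L' → ℂ) =
      classInner (fun x : L => f x) (ν : L → ℂ) := fun f => by
    rw [← classInner_comp_equiv i (fun x : L => f x) (ν : L → ℂ)]
    rfl
  -- the action on the characters of `K`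
  letI : MulAction A (IrrCharacter K) :=
    { smul := fun a χ => transIrr (uA a) χ
      one_smul := fun χ => Subtype.ext (funext fun g => by
        show (χ : K → ℂ) ((uA 1).symm g) = (χ : K → ℂ) g
        rw [map_one]; rfl)
      mul_smul := fun a b χ => Subtype.ext (funext fun g => by
        show (χ : K → ℂ) ((uA (a * b)).symm g) = (χ : K → ℂ) ((uA b).symm ((uA a).symm g))
        rw [map_mul]; rfl) }
  letI : MulAction (dual L') (IrrCharacter K) :=
    { smul := fun l χ => twistIrr χ l.1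
      one_smul := fun χ => Subtype.ext (funext fun g => by
        show (χ : K → ℂ) g * (((1 : K →* ℂˣ) g : ℂˣ) : ℂ) = _
        simp)
      mul_smul := fun a b χ => Subtype.ext (funext fun g => by
        show (χ : K → ℂ) g * (((a.1 * b.1) g : ℂˣ) : ℂ) =
          (χ : K → ℂ) g * ((b.1 g : ℂˣ) : ℂ) * ((a.1 g : ℂˣ) : ℂ)
        rw [MonoidHom.mul_apply, Units.val_mul]; ring) }
  let β : A →* MulAut (dual L') :=
    { toFun := fun a =>
        { toFun := fun l => ⟨l.1.comp (uA a).symm.toMonoidHom, fun x hx => l.2 _ (hL's a x hx)⟩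
          invFun := fun l => ⟨l.1.comp (uA a).toMonoidHom, fun x hx => l.2 _ (hL' a x hx)⟩
          left_inv := fun l => Subtype.ext (MonoidHom.ext fun x => by simp)
          right_inv := fun l => Subtype.ext (MonoidHom.ext fun x => by simp)
          map_mul' := fun l m => rfl }
      map_one' := MulEquiv.ext fun l => Subtype.ext (MonoidHom.ext fun x => by
        show l.1 ((uA 1).symm x) = l.1 x
        rw [map_one]; rfl)
      map_mul' := fun a b => MulEquiv.ext fun l => Subtype.ext (MonoidHom.ext fun x => by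
        show l.1 ((uA (a * b)).symm x) = l.1 ((uA b).symm ((uA a).symm x))
        rw [map_mul]; rfl) }
  have hβ : ∀ (a : A) (l : dual L') (χ : IrrCharacter K), a • l • χ = β a l • a • χ :=
    fun a l χ => Subtype.ext (funext fun g => rfl)
  have hn : ∀ l : dual L', l ^ Nat.card K = 1 := fun l => Subtype.ext (MonoidHom.ext fun x => by
    rw [SubmonoidClass.coe_pow, MonoidHom.pow_apply, ← map_pow, pow_card_eq_one', map_one]
    rfl)
  -- restriction to `L'`
  have hres : ∀ θ : IrrCharacter K, classInner (fun x : L' => (θ : K → ℂ) x) (ν' : L' → ℂ) ≠ 0 →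
      (fun x : L' => (θ : K → ℂ) x) =
        classInner (fun x : L' => (θ : K → ℂ) x) (ν' : L' → ℂ) • (ν' : L' → ℂ) :=
    fun θ h => restrict_eq_smul_of_invariant L' θ.2 ν'.2 hν'K h
  have htwist : ∀ θ θ' : IrrCharacter K,
      classInner (fun x : L' => (θ : K → ℂ) x) (ν' : L' → ℂ) ≠ 0 →
      classInner (fun x : L' => (θ' : K → ℂ) x) (ν' : L' → ℂ) ≠ 0 → ∃ l : dual L', θ' = l • θ := by
    intro θ θ' h h'
    obtain ⟨l, hl⟩ := exists_twist_of_classInner L' hab' θ θ' (by
      rw [hres θ h, hres θ' h', classInner_smul_left, classInner_smul_right,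
        IsIrrCharacter.classInner_self ν'.2, mul_one]
      exact mul_ne_zero h (by simpa using h'))
    exact ⟨⟨l.1, l.2⟩, hl.symm⟩
  have hmoveA : ∀ (a : A) (θ : IrrCharacter K),
      classInner (fun x : L' => ((a • θ : IrrCharacter K) : K → ℂ) x) (ν' : L' → ℂ) =
        classInner (fun x : L' => (θ : K → ℂ) x) (ν' : L' → ℂ) := fun a θ => by
    rw [classInner, classInner]
    congr 1
    refine (Fintype.sum_equiv (restrictAct uA L' hL' a).toEquiv _ _ fun x => ?_).symm
    show (θ : K → ℂ) x * conj ((ν : L → ℂ) (i x)) =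
      (transIrr (uA a) θ : K → ℂ) (uA a x) * conj ((ν : L → ℂ) (i (restrictAct uA L' hL' a x)))
    rw [transIrr_apply, hνA a (i x) (i (restrictAct uA L' hL' a x)) rfl]
  obtain ⟨θ₀, hθ₀⟩ := Cfsg.Agent.Lib.Blocks.exists_over L' ν'
  obtain ⟨l₀, hl₀⟩ := exists_fixed_of_abelian (S := A) hn
    (by rwa [← Nat.card_eq_fintype_card]) (fun a => (β a).toMonoidHom) hβ θ₀
    fun a => htwist θ₀ _ hθ₀ (by rw [hmoveA]; exact hθ₀)
  let θ : IrrCharacter K := l₀ • θ₀
  have hθν : classInner (fun x : L' => (θ : K → ℂ) x) (ν' : L' → ℂ) ≠ 0 := by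
    rw [show (fun x : L' => (θ : K → ℂ) x) = fun x : L' => (θ₀ : K → ℂ) x from funext fun x => by
      show (θ₀ : K → ℂ) x * ((l₀.1 x : ℂˣ) : ℂ) = _
      rw [l₀.2 x x.2, Units.val_one, mul_one]]
    exact hθ₀
  have hθA : ∀ a k, (θ : K → ℂ) (uA a k) = (θ : K → ℂ) k := fun a =>
    (transIrr_eq_self_iff (uA a) θ).1 (hl₀ a)
  -- uniqueness
  have huniq : ∀ θ' : IrrCharacter K, (∀ a k, (θ' : K → ℂ) (uA a k) = (θ' : K → ℂ) k) →
      classInner (fun x : L' => (θ' : K → ℂ) x) (ν' : L' → ℂ) ≠ 0 → θ' = θ := by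
    intro θ' hA' h'
    obtain ⟨l, hl⟩ := htwist θ θ' hθν h'
    have hst : l ∈ MulAction.stabilizer (dual L') θ := by
      refine mem_of_moves β ((hcK.coprime_dvd_left ?_)) ?_ _ fun a => ?_
      · rw [card_dual L' hab']
        exact L'.index_dvd_card
      · intro v hv
        refine hdual v fun a x => ?_
        have h := DFunLike.congr_fun (congrArg Subtype.val (hv a)) (uA a x)
        simpa [β] using h.symm
      · rw [MulAction.mem_stabilizer_iff, mul_comm, mul_smul, inv_smul_eq_iff]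
        have h1 : a • θ = θ := (transIrr_eq_self_iff (uA a) θ).2 (hθA a)
        have h2 : a • θ' = θ' := (transIrr_eq_self_iff (uA a) θ').2 (hA' a)
        rw [hl, hβ, h1] at h2
        exact h2.symm
    rw [hl, MulAction.mem_stabilizer_iff.1 hst]
  have hθG : ∀ g : G, conjFun K g (θ : K → ℂ) = (θ : K → ℂ) := by
    intro g
    have hθc := irr_isClassFunction θ
    have hfixc : ∀ c : G, (∀ a, act a c = c) → conjFun K c (θ : K → ℂ) = (θ : K → ℂ) := by
      intro c hc
      refine congrArg Subtype.val (huniq ⟨_, IsIrrCharacter.conjFun K θ.2 c⟩ (fun a k => ?_) ?_)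
      · show (θ : K → ℂ) _ = (θ : K → ℂ) _
        rw [← hθA a ⟨c * (k : G) * c⁻¹, _⟩]
        refine congrArg (θ : K → ℂ) (Subtype.ext ?_)
        show c * act a k * c⁻¹ = act a (c * k * c⁻¹)
        rw [map_mul, map_mul, map_inv, hc]
      · rw [show classInner _ (ν' : L' → ℂ) = classInner (fun x : L' => (θ : K → ℂ) x) (ν' : L' → ℂ)
          from ?_]
        · exact hθν
        rw [hres θ hθν, classInner_smul_left, IsIrrCharacter.classInner_self ν'.2, mul_one]
        rw [show (fun x : L' => conjFun K c (θ : K → ℂ) x) =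
            classInner (fun x : L' => (θ : K → ℂ) x) (ν' : L' → ℂ) • (ν' : L' → ℂ) from
          funext fun x => ?_]
        · rw [classInner_smul_left, IsIrrCharacter.classInner_self ν'.2, mul_one]
        have hcx : c * ((x : K) : G) * c⁻¹ ∈ L := (inferInstance : L.Normal).conj_mem _ x.2 c
        refine (congrFun (hres θ hθν) ⟨⟨_, hLK hcx⟩, hcx⟩).trans ?_
        rw [Pi.smul_apply, Pi.smul_apply, hν', hν']
        exact congrArg _ (congrFun (hνG c) (i x))
    obtain ⟨h, hh, k, hk, rfl⟩ := hG g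
    obtain ⟨x, hx, c, hc, rfl⟩ := hH h hh
    rw [conjFun_mul, conjFun_mul, conjFun_of_mem K hθc (hLK hx), hfixc c hc,
      conjFun_of_mem K hθc hk]
  -- the matrix representation and the involution
  obtain ⟨m, R, hR, hRtr, -, -⟩ := exists_matrix_rep θ.2
  obtain ⟨m₀, U, hU, hUtr, hU1, hm₀⟩ := exists_matrix_rep ν'.2
  obtain ⟨e, he⟩ := IsCharacter.exists_classInner_nat
    (IsCharacter.restrict (irr_isCharacter θ) L') (irr_isCharacter ν')
  have hRL : ∀ x : L', (R.comp L'.subtype x).trace = e * (U x).trace := fun x => by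
    have h := congrFun (hres θ hθν) x
    rw [he] at h
    rw [MonoidHom.comp_apply, hRtr, hUtr]
    exact h
  obtain ⟨htr, hcen⟩ := commutant_isotypic hU e hRL
  have hν1 : (ν' : L' → ℂ) 1 ≠ 0 := IsIrrCharacter.apply_one_ne_zero ν'.2
  obtain ⟨J, hJ2, hJL, hJsemi, hJaut, c₀, hc₀, hJtr⟩ := exists_involution (L := L') uA hR
    (hodd.of_dvd_nat (Subgroup.card_subgroup_dvd_card K)) hab' hcK
    (fun a k => by rw [hRtr, hRtr, hθA]) hL' hdual (ν' : L' → ℂ) hν1
    (fun T hT x => by
      have h := htr T hT x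
      rwa [hUtr, hUtr] at h)
    hcen
  have hθR : ∀ (g : G) (k : K), (R (MulAut.conjNormal g k)).trace = (R k).trace := fun g k => by
    rw [hRtr, hRtr]
    exact congrFun (hθG g) k
  have hθeq : (fun k => (R k).trace) = (θ : K → ℂ) := funext hRtr
  have hJfix : ∀ h ∈ H, ∀ Φ : Matrix (Fin m) (Fin m) ℂ →ₐ[ℂ] Matrix (Fin m) (Fin m) ℂ,
      (∀ k, Φ (R k) = R (MulAut.conjNormal h k)) → Φ J = J := by
    intro h hh Φ hΦ
    obtain ⟨x, hx, c, hc, rfl⟩ := hH h hh
    obtain ⟨Φc, hΦc⟩ := exists_auto R (MulAut.conjNormal c) (hθR c)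
    have hJc : Φc J = J := hJaut _ Φc hΦc (hLg c) fun a k => Subtype.ext (by
      show ((MulAut.conjNormal c (uA a k) : K) : G) = act a ((MulAut.conjNormal c k : K) : G)
      rw [MulAut.conjNormal_apply, MulAut.conjNormal_apply, map_mul, map_mul, map_inv, hc]
      rfl)
    let x' : K := ⟨x, hLK hx⟩
    have h1 : Φ.toLinearMap = (sand (R x') (R x'⁻¹)).comp Φc.toLinearMap := by
      refine linearMap_ext_rep hR fun k => ?_
      show Φ (R k) = R x' * Φc (R k) * R x'⁻¹
      rw [hΦ, hΦc, ← map_mul, ← map_mul]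
      refine congrArg R (Subtype.ext ?_)
      simp [x', MulAut.conjNormal_apply, mul_assoc]
    have h2 := LinearMap.congr_fun h1 J
    simp only [AlgHom.toLinearMap_apply, LinearMap.comp_apply, sand_apply, hJc] at h2
    rw [h2, hJL ⟨x', hx⟩, mul_assoc, ← map_mul, mul_inv_cancel, map_one, mul_one]
  have hLH' : ∀ x ∈ L', (x : G) ∈ H := fun x hx => hLH hx
  have hint : ∀ k : K, (k : G) ∈ H → k ∈ L' := by
    intro k hk
    obtain ⟨x, hx, c, hc, he⟩ := hH k hk
    show (k : G) ∈ L
    rw [he]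
    refine L.mul_mem hx (hfix c ?_ fun a => ?_)
    · have : c = x⁻¹ * (k : G) := by rw [he, inv_mul_cancel_left]
      exact this ▸ K.mul_mem (K.inv_mem (hLK hx)) k.2
    · rw [hc a, mul_inv_cancel]
      exact L.one_mem
  -- invariant characters over `ν` lie over `θ`
  have hover : ∀ χ : IrrCharacter G, IsInv act (χ : G → ℂ) →
      classInner (fun x : L => (χ : G → ℂ) x) (ν : L → ℂ) ≠ 0 →
      classInner (fun k : K => (χ : G → ℂ) k) (θ : K → ℂ) ≠ 0 := by
    intro χ hχ hν0
    obtain ⟨η, hη⟩ := Cfsg.Agent.Lib.Blocks.exists_constituent_restrict K χ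
    have hLres := restrict_eq_smul_of_invariant L χ.2 ν.2 hνG hν0
    have hην : classInner (fun x : L' => (η : K → ℂ) x) (ν' : L' → ℂ) ≠ 0 := by
      obtain ⟨η', hη', hdec⟩ := IsCharacter.exists_add_of_classInner_ne_zero
        (IsCharacter.restrict (irr_isCharacter χ) K) η.2 hη
      obtain ⟨ξ, hξ⟩ := Cfsg.Agent.Lib.Blocks.exists_constituent_restrict L' η
      have h1 : classInner (fun x : L' => (χ : G → ℂ) ((x : K) : G)) (ξ : L' → ℂ) ≠ 0 := by
        have h2 := IsCharacter.classInner_ne_zero_of_add (IsCharacter.restrict (irr_isCharacter η) L')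
          (IsCharacter.restrict hη' L') (irr_isCharacter ξ) hξ
        rw [show (fun x : L' => (χ : G → ℂ) ((x : K) : G)) =
          (fun x : L' => (η : K → ℂ) x) + fun x : L' => η' x from
          funext fun x => congrFun hdec (x : K)]
        exact h2
      rw [show (fun x : L' => (χ : G → ℂ) ((x : K) : G)) =
        classInner (fun x : L => (χ : G → ℂ) x) (ν : L → ℂ) • (ν' : L' → ℂ) from
          funext fun x => congrFun hLres (i x), classInner_smul_left, mul_ne_zero_iff,
        classInner_irr] at h1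
      rw [show ν' = ξ by
        by_contra hne
        exact h1.2 (if_neg hne)]
      exact hξ
    have hconj : ∀ φ : IrrCharacter K, classInner (fun k : K => (χ : G → ℂ) k) (φ : K → ℂ) ≠ 0 →
        ∃ c, (∀ a, act a c = c) ∧ conjFun K c (η : K → ℂ) = (φ : K → ℂ) := by
      intro φ hφ
      obtain ⟨g, hg⟩ := exists_conjFun_eq K χ.2 η.2 φ.2 hη hφ
      obtain ⟨h, hh, k, hk, rfl⟩ := hG g
      obtain ⟨x, hx, c, hc, rfl⟩ := hH h hh
      refine ⟨c, hc, ?_⟩
      rwa [conjFun_mul, conjFun_mul, conjFun_of_mem K (irr_isClassFunction η) (hLK hx),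
        conjFun_of_mem K (IsCharacter.isClassFunction
          (IsCharacter.conjFun K (irr_isCharacter η) c)) hk] at hg
    have hηA : ∀ a k, (η : K → ℂ) (uA a k) = (η : K → ℂ) k := by
      intro a
      have hmem : classInner (fun k : K => (χ : G → ℂ) k) ((η : K → ℂ) ∘ uA a) ≠ 0 := by
        rw [show (fun k : K => (χ : G → ℂ) k) = (fun k : K => (χ : G → ℂ) k) ∘ uA a from
          funext fun k => (hχ a k).symm, classInner_comp_equiv]
        exact hη
      obtain ⟨c, hc, hce⟩ := hconj ⟨_, IsIrrCharacter.comp_equiv η.2 (uA a)⟩ hmem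
      have hce' : ∀ k, (η : K → ℂ) (uA a k) = conjFun K c (η : K → ℂ) k := fun k =>
        (congrFun hce k).symm
      have hit : ∀ j : ℕ, ∀ k, (η : K → ℂ) (uA (a ^ j) k) = conjFun K (c ^ j) (η : K → ℂ) k := by
        intro j
        induction j with
        | zero => intro k; rw [pow_zero, pow_zero, map_one, conjFun_one]; rfl
        | succ j ih =>
          intro k
          rw [pow_succ', map_mul, MulAut.mul_apply, hce']
          show (η : K → ℂ) _ = _
          rw [pow_succ, conjFun_mul]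
          show (η : K → ℂ) _ = conjFun K (c ^ j) (η : K → ℂ) ⟨c * k * c⁻¹, _⟩
          rw [← ih]
          refine congrArg (η : K → ℂ) (Subtype.ext ?_)
          show c * act (a ^ j) k * c⁻¹ = act (a ^ j) (c * k * c⁻¹)
          rw [map_mul, map_mul, map_inv, hc]
      obtain ⟨j, hj1, hj0⟩ := Nat.chineseRemainder hcop.symm 1 0
      intro k
      have ha : a ^ j = a := by
        conv_rhs => rw [← pow_one a]
        exact pow_eq_pow_of_modEq hj1 pow_card_eq_one'
      have hcj : c ^ j = 1 := by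
        rw [← pow_zero c]
        exact pow_eq_pow_of_modEq hj0 pow_card_eq_one'
      rw [← ha, hit, hcj, conjFun_one]
    rw [← huniq η hηA hην]
    exact hη
  have hbelow : ∀ χ : IrrCharacter G, classInner (fun k : K => (χ : G → ℂ) k) (θ : K → ℂ) ≠ 0 →
      (fun x : L => (χ : G → ℂ) x) =
        (classInner (fun k : K => (χ : G → ℂ) k) (θ : K → ℂ) *
          classInner (fun x : L' => (θ : K → ℂ) x) (ν' : L' → ℂ)) • (ν : L → ℂ) := by
    intro χ h
    have h1 := restrict_eq_smul_of_invariant K χ.2 θ.2 hθG h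
    funext x
    refine (congrFun h1 ⟨x, hLK x.2⟩).trans ?_
    rw [Pi.smul_apply, Pi.smul_apply, smul_eq_mul, smul_eq_mul, mul_assoc]
    refine congrArg _ ((congrFun (hres θ hθν) (i.symm x)).trans ?_)
    rw [Pi.smul_apply, smul_eq_mul, hν', i.apply_symm_apply]
  have hnorm : ∀ (χ : IrrCharacter G) (o : Over R J H χ), classInner o.delta o.delta = 1 :=
    fun χ o => by
      rw [Over.classInner_delta hR hodd hab' hLg hLH' (fun g => hG g) hJ2 hJsemi o o, if_pos rfl]
  have hmk : ∀ χ : IrrCharacter G, classInner (fun k : K => (χ : G → ℂ) k) (θ : K → ℂ) ≠ 0 →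
      Nonempty (Over R J H χ) := fun χ h => exists_over hR hθR hJfix χ (by rwa [hθeq])
  have hinj : ∀ χ χ' : IrrCharacter G,
      classInner (fun k : K => (χ : G → ℂ) k) (θ : K → ℂ) ≠ 0 →
      classInner (fun k : K => (χ' : G → ℂ) k) (θ : K → ℂ) ≠ 0 →
      ∀ ψ : IrrCharacter H, OddMult H (χ : G → ℂ) (ψ : H → ℂ) →
        OddMult H (χ' : G → ℂ) (ψ : H → ℂ) → χ = χ' := by
    intro χ χ' h h' ψ hψ hψ'
    obtain ⟨o⟩ := hmk χ h
    obtain ⟨o'⟩ := hmk χ' h'
    obtain ⟨p, -, hp, hps⟩ := o.parity hJ2 (hnorm χ o)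
    obtain ⟨p', -, hp', hps'⟩ := o'.parity hJ2 (hnorm χ' o')
    obtain rfl := hp ψ hψ
    obtain rfl := hp' ψ hψ'
    by_contra hne
    have h0 := Over.classInner_delta hR hodd hab' hLg hLH' (fun g => hG g) hJ2 hJsemi o' o
    rw [if_neg hne] at h0
    rcases hps with e1 | e1 <;> rcases hps' with e2 | e2 <;>
      · rw [e1, e2] at h0
        simp only [classInner_neg_left, classInner_neg_right, IsIrrCharacter.classInner_self ψ.2,
          neg_neg, neg_eq_zero, one_ne_zero] at h0
  refine ⟨fun χ hχ hν0 => ?_, fun χ χ' hχ hχ' h h' => hinj χ χ' (hover χ hχ h) (hover χ' hχ' h'),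
    fun ψ hψA hψν => ?_⟩
  · obtain ⟨o⟩ := hmk χ (hover χ hχ hν0)
    obtain ⟨ψ, hψ, hu, -⟩ := o.parity hJ2 (hnorm χ o)
    refine ⟨ψ, fun a h h' hh => ?_, ?_, hψ, hu⟩
    · have hHA : ∀ a, ∀ z ∈ H, act a z ∈ H := by
        intro a z hz
        obtain ⟨x, hx, c, hc, rfl⟩ := hH z hz
        rw [map_mul, hc]
        refine H.mul_mem (hLH (hL a x hx)) ?_
        have := H.mul_mem (H.inv_mem (hLH hx)) hz
        rwa [inv_mul_cancel_left] at this
      let r := restrictAct act H hHA a
      have hr : OddMult H (χ : G → ℂ) ((ψ : H → ℂ) ∘ r) := by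
        obtain ⟨n, hn', hn''⟩ := hψ
        refine ⟨n, ?_, hn''⟩
        rw [← hn', ← classInner_comp_equiv r (fun z : H => (χ : G → ℂ) z) (ψ : H → ℂ)]
        congr 1
        funext z
        exact (hχ a z).symm
      have he := congrArg Subtype.val (hu ⟨_, IsIrrCharacter.comp_equiv ψ.2 r⟩ hr)
      rw [show h' = r h from Subtype.ext hh]
      exact congrFun he h
    · intro h0
      obtain ⟨n, hn', hn''⟩ := hψ
      have hne : classInner (fun z : H => (χ : G → ℂ) z) (ψ : H → ℂ) ≠ 0 := by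
        rw [hn', Nat.cast_ne_zero]
        rintro rfl
        exact absurd hn'' (by decide)
      obtain ⟨ψ', hψ', hdec⟩ := IsCharacter.exists_add_of_classInner_ne_zero
        (IsCharacter.restrict (irr_isCharacter χ) H) ψ.2 hne
      let j := Subgroup.inclusion hLH
      obtain ⟨ξ, hξ⟩ := IsCharacter.exists_constituent (IsCharacter.comp (irr_isCharacter ψ) j)
        (fun hz => IsIrrCharacter.apply_one_ne_zero ψ.2 (by simpa using congrFun hz 1))
      have h2 := IsCharacter.classInner_ne_zero_of_add (IsCharacter.comp (irr_isCharacter ψ) j)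
        (IsCharacter.comp hψ' j) (irr_isCharacter ξ) hξ
      rw [show (ψ : H → ℂ) ∘ j + ψ' ∘ j = (fun x : L => (χ : G → ℂ) x) from
          funext fun x => (congrFun hdec (j x)).symm, hbelow χ (hover χ hχ hν0),
        classInner_smul_left, mul_ne_zero_iff, classInner_irr] at h2
      have hξν : ν = ξ := by
        by_contra hne'
        exact h2.2 (if_neg hne')
      exact hξ (hξν ▸ h0)
  · have hcond : ∑ x : L', (ν' : L' → ℂ) x * conj ((ψ : H → ℂ) ⟨_, hLH' x x.2⟩) ≠ 0 := by
      intro h0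
      refine hψν ?_
      rw [← classInner_conj_symm, classInner,
        ← Fintype.sum_equiv i.toEquiv (fun x => (ν' : L' → ℂ) x * conj ((ψ : H → ℂ) ⟨_, hLH' x x.2⟩))
          (fun x : L => (ν : L → ℂ) x * conj ((ψ : H → ℂ) ⟨x, hLH x.2⟩)) (fun x => rfl), h0,
        mul_zero, map_zero]
    obtain ⟨χ, o, hχθ, hχψ⟩ := exists_delta_ne_zero hR hint hLH' hθR hJfix (ν' : L' → ℂ) hc₀ hJtr ψ hcond
    rw [hθeq] at hχθ
    obtain ⟨p, hpodd, hpu, hps⟩ := o.parity hJ2 (hnorm χ o)
    have hpψ : ψ = p := by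
      by_contra hne
      rcases hps with e1 | e1 <;>
        · rw [e1] at hχψ
          exact hχψ (by simp [classInner_neg_left, classInner_irr, Ne.symm hne])
    subst hpψ
    refine ⟨χ, fun a g => ?_, ?_, hpodd⟩
    · let χa : IrrCharacter G := ⟨_, IsIrrCharacter.comp_equiv χ.2 (act a)⟩
      have h1 : classInner (fun k : K => (χa : G → ℂ) k) (θ : K → ℂ) ≠ 0 := by
        rw [show (θ : K → ℂ) = (θ : K → ℂ) ∘ uA a from funext fun k => (hθA a k).symm,
          show (fun k : K => (χa : G → ℂ) k) = (fun k : K => (χ : G → ℂ) k) ∘ uA a from rfl,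
          classInner_comp_equiv]
        exact hχθ
      have h2 : OddMult H (χa : G → ℂ) (ψ : H → ℂ) := by
        obtain ⟨n, hn', hn''⟩ := hpodd
        refine ⟨n, ?_, hn''⟩
        have hHA : ∀ a, ∀ z ∈ H, act a z ∈ H := by
          intro a z hz
          obtain ⟨x, hx, c, hc, rfl⟩ := hH z hz
          rw [map_mul, hc]
          refine H.mul_mem (hLH (hL a x hx)) ?_
          have := H.mul_mem (H.inv_mem (hLH hx)) hz
          rwa [inv_mul_cancel_left] at this
        rw [← hn', ← classInner_comp_equiv (restrictAct act H hHA a) (fun z : H => (χ : G → ℂ) z)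
          (ψ : H → ℂ)]
        congr 1
        exact funext fun z => (hψA a z _ rfl).symm
      exact congrFun (congrArg Subtype.val (hinj χa χ h1 hχθ ψ h2 hpodd)) g
    · rw [hbelow χ hχθ, classInner_smul_left, IsIrrCharacter.classInner_self ν.2, mul_one]
      exact mul_ne_zero hχθ hθν

end Cfsg.Agent.Lib.OddSection
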