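import Cfsg.Agent.Lib.OddSection.Fixed
import Cfsg.Agent.Lib.Coprime.External

/-!
# The correspondence for an abelian section of a group of odd order

Passage from the inertia group of an invariant character of the bottom of the section to the whole
group by Clifford's correspondence.
-/

set_option autoImplicit false
set_option linter.unusedSectionVars false
set_option linter.style.haveILetI false

namespace Cfsg.Agent.Lib.OddSection

open Cfsg Cfsg.Agent.Lib.Characters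
open Cfsg.Agent.Lib.Glauberman (IsInv restrictAct restrictAct_apply quotAct quotAct_mk
  transIrr_eq_self_iff exists_fixed_of_abelian clifford_unique indFun_apply_aut inertia_invariant
  classInner_subgroupOf classInner_sub_eq_sum fixedSub mem_fixedSub)
open Cfsg.Agent.Lib.BrauerPairs (transIrr transIrr_apply)
open Cfsg.Agent.Lib.Blocks (exists_constituent_restrict)
open scoped ComplexConjugate

universe u v

theorem eq_one_of_mem_closure_moves {M : Type u} [CommGroup M] [Finite M] {A : Type v} [Group A]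
    [Fintype A] (α : A →* MulAut M) (hcop : (Nat.card M).Coprime (Nat.card A)) {v : M}
    (hmem : v ∈ Subgroup.closure {x | ∃ a w, x = α a w * w⁻¹}) (hv : ∀ a, α a v = v) : v = 1 := by
  have h1 : ∏ b, α b v = 1 := by
    clear hv
    induction hmem using Subgroup.closure_induction with
    | mem x hx =>
      obtain ⟨a, u, rfl⟩ := hx
      simp only [map_mul, map_inv, Finset.prod_mul_distrib, Finset.prod_inv_distrib,
        prod_act_act, mul_inv_cancel]
    | one => simp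
    | mul x y _ _ hx hy => simp [map_mul, Finset.prod_mul_distrib, hx, hy]
    | inv x _ hx => simp [map_inv, Finset.prod_inv_distrib, hx]
  simp only [hv, Finset.prod_const, Finset.card_univ, ← Nat.card_eq_fintype_card] at h1
  have h3 := pow_gcd_eq_one.mpr ⟨(pow_card_eq_one' : v ^ Nat.card M = 1), h1⟩
  rwa [hcop.gcd_eq_one, pow_one] at h3

variable {G : Type u} [Group G] [Fintype G] {A : Type v} [Group A] [Finite A]

/-- In a group `N` times fixed points every constituent of an invariant character on `N` is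
invariant. -/
theorem constituent_isInv (φ : A →* MulAut G) (hcop : (Nat.card G).Coprime (Nat.card A))
    (N : Subgroup G) [N.Normal] [Fintype N] (hN : ∀ a, ∀ n ∈ N, φ a n ∈ N)
    (hdec : ∀ g, ∃ n ∈ N, ∃ c, (∀ a, φ a c = c) ∧ g = n * c)
    (χ : IrrCharacter G) (hχ : IsInv φ (χ : G → ℂ)) (η : IrrCharacter N)
    (hη : classInner (fun n : N => (χ : G → ℂ) n) (η : N → ℂ) ≠ 0) :
    IsInv (restrictAct φ N hN) (η : N → ℂ) := by
  intro a
  let r := restrictAct φ N hN
  have hmem : classInner (fun k : N => (χ : G → ℂ) k) ((η : N → ℂ) ∘ r a) ≠ 0 := by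
    rw [show (fun k : N => (χ : G → ℂ) k) = (fun k : N => (χ : G → ℂ) k) ∘ r a from
      funext fun k => (hχ a k).symm, classInner_comp_equiv]
    exact hη
  obtain ⟨g, hg⟩ := exists_conjFun_eq N χ.2 η.2 (IsIrrCharacter.comp_equiv η.2 (r a)) hη hmem
  obtain ⟨n, hn, c, hc, rfl⟩ := hdec g
  rw [conjFun_mul, conjFun_of_mem N (irr_isClassFunction η) hn] at hg
  have hce : ∀ k, (η : N → ℂ) (r a k) = conjFun N c (η : N → ℂ) k := fun k => (congrFun hg k).symm
  have hit : ∀ j : ℕ, ∀ k, (η : N → ℂ) (r (a ^ j) k) = conjFun N (c ^ j) (η : N → ℂ) k := by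
    intro j
    induction j with
    | zero => intro k; rw [pow_zero, pow_zero, map_one, conjFun_one]; rfl
    | succ j ih =>
      intro k
      rw [pow_succ', map_mul, MulAut.mul_apply, hce, pow_succ, conjFun_mul]
      show (η : N → ℂ) _ = conjFun N (c ^ j) (η : N → ℂ) ⟨c * k * c⁻¹, _⟩
      rw [← ih]
      refine congrArg (η : N → ℂ) (Subtype.ext ?_)
      show c * φ (a ^ j) k * c⁻¹ = φ (a ^ j) (c * k * c⁻¹)
      rw [map_mul, map_mul, map_inv, hc]
  obtain ⟨j, hj1, hj0⟩ := Nat.chineseRemainder hcop.symm 1 0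
  intro k
  have ha : a ^ j = a := by
    conv_rhs => rw [← pow_one a]
    exact pow_eq_pow_of_modEq hj1 pow_card_eq_one'
  have hcj : c ^ j = 1 := by
    rw [← pow_zero c]
    exact pow_eq_pow_of_modEq hj0 pow_card_eq_one'
  rw [← ha, hit, hcj, conjFun_one]

/-- Invariant Clifford correspondent. -/
theorem clifford_down (φ : A →* MulAut G) (N : Subgroup G) [N.Normal] [Fintype N] (T : Subgroup G)
    [Fintype T] (hNT : N ≤ T) (θ : IrrCharacter N) (hT : inertia N (θ : N → ℂ) = T)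
    (hNinv : ∀ a, ∀ n ∈ N, φ a n ∈ N) (hTφ : ∀ a, ∀ t ∈ T, φ a t ∈ T) (hθA : ∀ a, ∀ x y : N, (y : G) = φ a x → (θ : N → ℂ) y = (θ : N → ℂ) x)
    (χ : IrrCharacter G) (hχ : IsInv φ (χ : G → ℂ))
    (hover : classInner (fun n : N => (χ : G → ℂ) n) (θ : N → ℂ) ≠ 0) :
    ∃ ξ : IrrCharacter T, IsInv (restrictAct φ T hTφ) (ξ : T → ℂ) ∧
      classInner (fun n : N => (ξ : T → ℂ) ⟨n, hNT n.2⟩) (θ : N → ℂ) ≠ 0 ∧
      classInner (fun t : T => (χ : G → ℂ) t) (ξ : T → ℂ) ≠ 0 := by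
  obtain ⟨ξ₀, hξ₀, hind, he⟩ := exists_clifford_correspondent N χ.2 θ.2 hover T hT hNT
  let ξ : IrrCharacter T := ⟨ξ₀, hξ₀⟩
  have hov : classInner (fun n : N => (ξ : T → ℂ) ⟨n, hNT n.2⟩) (θ : N → ℂ) ≠ 0 := by
    rw [show (ξ : T → ℂ) = ξ₀ from rfl, he]; exact hover
  have hcon : classInner (fun t : T => (χ : G → ℂ) t) (ξ : T → ℂ) ≠ 0 := by
    rw [← classInner_indFun_right T ξ₀ (irr_isClassFunction χ), hind, IsIrrCharacter.classInner_self χ.2]
    exact one_ne_zero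
  refine ⟨ξ, fun a t => ?_, hov, hcon⟩
  set r := restrictAct φ T hTφ a with hr
  let ξ' : IrrCharacter T := ⟨_, IsIrrCharacter.comp_equiv ξ.2 r⟩
  by_contra hne
  have hne' : ξ' ≠ ξ := fun h => hne (congrFun (congrArg Subtype.val h) t)
  have h0 := (clifford_unique N T θ hT hNT χ ξ hov hcon).2.2.2 ξ' ?_ hne'
  · apply hcon
    rw [← h0, show (ξ' : T → ℂ) = (ξ : T → ℂ) ∘ r from rfl]
    conv_rhs => rw [show (fun t : T => (χ : G → ℂ) t) = (fun t : T => (χ : G → ℂ) t) ∘ r from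
      funext fun t => (hχ a t).symm]
    exact (classInner_comp_equiv r _ _).symm
  · have hNφ := hNinv a
    have hbij : Function.Bijective fun n : N => (⟨φ a n, hNφ n n.2⟩ : N) :=
      Finite.injective_iff_bijective.1 fun x y h => Subtype.ext ((φ a).injective (congrArg Subtype.val h))
    intro h1
    apply hov
    rw [← h1, classInner, classInner]
    congr 1
    refine (Fintype.sum_bijective _ hbij _ _ fun n => ?_).symm
    show (ξ : T → ℂ) (r ⟨n, hNT n.2⟩) * conj ((θ : N → ℂ) n) =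
      (ξ : T → ℂ) ⟨φ a n, _⟩ * conj ((θ : N → ℂ) ⟨φ a n, hNφ n n.2⟩)
    rw [hθA a n ⟨φ a n, hNφ n n.2⟩ rfl]
    rfl

/-- Invariant induced character. -/
theorem clifford_up (φ : A →* MulAut G) (N : Subgroup G) [N.Normal] [Fintype N] (T : Subgroup G)
    [Fintype T] (hNT : N ≤ T) (θ : IrrCharacter N) (hT : inertia N (θ : N → ℂ) = T)
    (hTφ : ∀ a, ∀ t ∈ T, φ a t ∈ T) (ξ : IrrCharacter T)
    (hξ : IsInv (restrictAct φ T hTφ) (ξ : T → ℂ))
    (hov : classInner (fun n : N => (ξ : T → ℂ) ⟨n, hNT n.2⟩) (θ : N → ℂ) ≠ 0) :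
    ∃ χ : IrrCharacter G, IsInv φ (χ : G → ℂ) ∧ indFun T (ξ : T → ℂ) = (χ : G → ℂ) ∧
      classInner (fun n : N => (χ : G → ℂ) n) (θ : N → ℂ) ≠ 0 ∧
      classInner (fun t : T => (χ : G → ℂ) t) (ξ : T → ℂ) ≠ 0 := by
  obtain ⟨χ, hχ⟩ := IsCharacter.exists_constituent (IsCharacter.indFun T (irr_isCharacter ξ))
    fun h => by
      have h1 := congrFun h 1
      rw [indFun_one, Pi.zero_apply, mul_eq_zero] at h1
      exact h1.elim (Nat.cast_ne_zero.2 T.index_ne_zero_of_finite)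
        (IsIrrCharacter.apply_one_ne_zero ξ.2)
  have hcon : classInner (fun t : T => (χ : G → ℂ) t) (ξ : T → ℂ) ≠ 0 := fun h => hχ (by
    rw [classInner_indFun T _ (irr_isClassFunction χ), ← classInner_conj_symm, h, map_zero])
  obtain ⟨hind, hover, -, -⟩ := clifford_unique N T θ hT hNT χ ξ hov hcon
  refine ⟨χ, fun a g => ?_, hind, hover, hcon⟩
  rw [← hind]
  refine indFun_apply_aut T (φ a) (fun x => ⟨fun h => hTφ a x h, fun h => ?_⟩) _
    (fun z z' hz => ?_) g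
  · have h1 := hTφ a⁻¹ _ h
    rwa [map_inv, MulAut.inv_apply, MulEquiv.symm_apply_apply] at h1
  · rw [show z' = restrictAct φ T hTφ a z from Subtype.ext hz]
    exact hξ a z

/-- A subgroup of `L` times fixed points is invariant. -/
theorem act_mem_of_decomp (act : A →* MulAut G) {L H : Subgroup G} (hLH : L ≤ H)
    (hL : ∀ a, ∀ x ∈ L, act a x ∈ L)
    (hH : ∀ h ∈ H, ∃ x ∈ L, ∃ c, (∀ a, act a c = c) ∧ h = x * c) :
    ∀ a, ∀ z ∈ H, act a z ∈ H := by
  intro a z hz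
  obtain ⟨x, hx, c, hc, rfl⟩ := hH z hz
  rw [map_mul, hc]
  refine H.mul_mem (hLH (hL a x hx)) ?_
  have := H.mul_mem (H.inv_mem (hLH hx)) hz
  rwa [inv_mul_cancel_left] at this

/-- The multiplicity of an induced character is that of the Clifford correspondents. -/
theorem classInner_clifford (N : Subgroup G) [N.Normal] [Fintype N] (T : Subgroup G) [Fintype T]
    (hNT : N ≤ T) (θ : IrrCharacter N) (hT : inertia N (θ : N → ℂ) = T) (H : Subgroup G) [Fintype H]
    (hNH : N ≤ H) [Fintype (T.subgroupOf H)] [Fintype (H.subgroupOf T)] (χ : IrrCharacter G)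
    (ξ : IrrCharacter T) (hov : classInner (fun n : N => (ξ : T → ℂ) ⟨n, hNT n.2⟩) (θ : N → ℂ) ≠ 0)
    (hcon : classInner (fun t : T => (χ : G → ℂ) t) (ξ : T → ℂ) ≠ 0) (ψ : IrrCharacter H)
    (β : IrrCharacter (T.subgroupOf H)) (γ : IrrCharacter (H.subgroupOf T))
    (hβγ : ∀ (x : T.subgroupOf H) (y : H.subgroupOf T), ((x : H) : G) = ((y : T) : G) →
      (β : T.subgroupOf H → ℂ) x = (γ : H.subgroupOf T → ℂ) y)
    (hind : indFun (T.subgroupOf H) (β : T.subgroupOf H → ℂ) = (ψ : H → ℂ))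
    (hγ : classInner (fun n : N => (γ : H.subgroupOf T → ℂ) ⟨⟨n, hNT n.2⟩, hNH n.2⟩) (θ : N → ℂ) ≠ 0) :
    classInner (fun h : H => (χ : G → ℂ) h) (ψ : H → ℂ) =
      classInner (fun y : H.subgroupOf T => (ξ : T → ℂ) y) (γ : H.subgroupOf T → ℂ) := by
  classical
  haveI := Fintype.ofFinite (IrrCharacter T)
  rw [← hind, classInner_indFun_right (T.subgroupOf H) _
    (IsCharacter.isClassFunction (IsCharacter.restrict (irr_isCharacter χ) H))]
  let e : T.subgroupOf H ≃ H.subgroupOf T :=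
    { toFun := fun x => ⟨⟨((x : H) : G), x.2⟩, (x : H).2⟩
      invFun := fun y => ⟨⟨((y : T) : G), y.2⟩, (y : T).2⟩
      left_inv := fun x => rfl
      right_inv := fun y => rfl }
  have h1 : classInner (fun x : T.subgroupOf H => (χ : G → ℂ) (x : H)) (β : T.subgroupOf H → ℂ) =
      classInner (fun y : H.subgroupOf T => (χ : G → ℂ) (y : T)) (γ : H.subgroupOf T → ℂ) := by
    rw [classInner, classInner, Nat.card_congr e]
    congr 1
    refine Fintype.sum_equiv e _ _ fun x => ?_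
    rw [hβγ x (e x) rfl]
    rfl
  rw [h1, classInner_sub_eq_sum (H.subgroupOf T)
    (IsCharacter.isClassFunction (IsCharacter.restrict (irr_isCharacter χ) T)),
    Finset.sum_eq_single ξ]
  · rw [(clifford_unique N T θ hT hNT χ ξ hov hcon).2.2.1, one_mul]
  · intro φ _ hne
    by_cases hφ : classInner (fun y : H.subgroupOf T => (φ : T → ℂ) y) (γ : H.subgroupOf T → ℂ) = 0
    · rw [hφ, mul_zero]
    rw [(clifford_unique N T θ hT hNT χ ξ hov hcon).2.2.2 φ ?_ hne, zero_mul]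
    obtain ⟨γ', hγ', hdec⟩ := IsCharacter.exists_add_of_classInner_ne_zero
      (IsCharacter.restrict (irr_isCharacter φ) (H.subgroupOf T)) γ.2 hφ
    let j : N →* H.subgroupOf T :=
      { toFun := fun n => ⟨⟨n, hNT n.2⟩, hNH n.2⟩
        map_one' := rfl
        map_mul' := fun _ _ => rfl }
    have h2 := IsCharacter.classInner_ne_zero_of_add (IsCharacter.comp (irr_isCharacter γ) j)
      (IsCharacter.comp hγ' j) (irr_isCharacter θ) hγ
    rw [show (fun n : N => (φ : T → ℂ) ⟨n, hNT n.2⟩) = (γ : H.subgroupOf T → ℂ) ∘ j + γ' ∘ j from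
      funext fun n => congrFun hdec (j n)]
    exact h2
  · simp

set_option maxHeartbeats 1000000 in
/-- The correspondence with an invariant character of `L` prescribed. -/
theorem correspondence_at (hodd : Odd (Nat.card G)) (hcop : (Nat.card G).Coprime (Nat.card A))
    (act : A →* MulAut G) (K L H : Subgroup G) [K.Normal] [L.Normal] [Fintype L] [Fintype H]
    (hLK : L ≤ K) (hLH : L ≤ H) (hK : ∀ a, ∀ k ∈ K, act a k ∈ K) (hL : ∀ a, ∀ x ∈ L, act a x ∈ L)
    (hab : ∀ a ∈ K, ∀ b ∈ K, a * b * a⁻¹ * b⁻¹ ∈ L)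
    (hfix : ∀ k ∈ K, (∀ a, act a k * k⁻¹ ∈ L) → k ∈ L)
    (hH : ∀ h ∈ H, ∃ x ∈ L, ∃ c, (∀ a, act a c = c) ∧ h = x * c)
    (hfixH : ∀ c, (∀ a, act a c = c) → c ∈ H)
    (hG : ∀ g : G, ∃ c, (∀ a, act a c = c) ∧ ∃ k ∈ K, g = c * k)
    (hconj : ∀ (ν ν' : IrrCharacter L), IsInv (restrictAct act L hL) (ν : L → ℂ) →
      IsInv (restrictAct act L hL) (ν' : L → ℂ) → ∀ k ∈ K,
        conjFun L k (ν : L → ℂ) = (ν' : L → ℂ) → ν = ν')
    (ν : IrrCharacter L) (hν : IsInv (restrictAct act L hL) (ν : L → ℂ)) :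
    let HA := restrictAct act H (act_mem_of_decomp act hLH hL hH)
    (∀ χ : IrrCharacter G, IsInv act (χ : G → ℂ) →
      classInner (fun x : L => (χ : G → ℂ) x) (ν : L → ℂ) ≠ 0 →
      ∃ ψ : IrrCharacter H, IsInv HA (ψ : H → ℂ) ∧ OddMult H (χ : G → ℂ) (ψ : H → ℂ) ∧
        ∀ ψ' : IrrCharacter H, IsInv HA (ψ' : H → ℂ) →
          classInner (fun x : L => (ψ' : H → ℂ) ⟨x, hLH x.2⟩) (ν : L → ℂ) ≠ 0 →
          OddMult H (χ : G → ℂ) (ψ' : H → ℂ) → ψ' = ψ) ∧
    (∀ χ χ' : IrrCharacter G, IsInv act (χ : G → ℂ) → IsInv act (χ' : G → ℂ) →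
      classInner (fun x : L => (χ : G → ℂ) x) (ν : L → ℂ) ≠ 0 →
      classInner (fun x : L => (χ' : G → ℂ) x) (ν : L → ℂ) ≠ 0 →
      ∀ ψ : IrrCharacter H, IsInv HA (ψ : H → ℂ) →
        classInner (fun x : L => (ψ : H → ℂ) ⟨x, hLH x.2⟩) (ν : L → ℂ) ≠ 0 →
        OddMult H (χ : G → ℂ) (ψ : H → ℂ) → OddMult H (χ' : G → ℂ) (ψ : H → ℂ) → χ = χ') ∧
    (∀ ψ : IrrCharacter H, IsInv HA (ψ : H → ℂ) →
      classInner (fun x : L => (ψ : H → ℂ) ⟨x, hLH x.2⟩) (ν : L → ℂ) ≠ 0 →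
      ∃ χ : IrrCharacter G, IsInv act (χ : G → ℂ) ∧
        OddMult H (χ : G → ℂ) (ψ : H → ℂ)) := by
  classical
  intro HA
  have hνA : ∀ a, ∀ x y : L, (y : G) = act a x → (ν : L → ℂ) y = (ν : L → ℂ) x := fun a x y h => by
    rw [show y = restrictAct act L hL a x from Subtype.ext h]
    exact hν a x
  obtain ⟨T, hT⟩ : ∃ T : Subgroup G, inertia L (ν : L → ℂ) = T := ⟨_, rfl⟩
  haveI : Fintype T := Fintype.ofFinite _
  have hLT : L ≤ T := hT ▸ le_inertia L (irr_isClassFunction ν)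
  have hTA : ∀ a, ∀ t ∈ T, act a t ∈ T := by
    subst hT
    exact fun a t ht => inertia_invariant act L hL ν hν a t ht
  have hTdec : ∀ g ∈ T, ∃ c, (∀ a, act a c = c) ∧ c ∈ T ∧ ∃ k ∈ K, k ∈ T ∧ g = c * k := by
    intro g hg
    obtain ⟨c, hc, k, hk, rfl⟩ := hG g
    have h1 : conjFun L k (conjFun L c (ν : L → ℂ)) = (ν : L → ℂ) := by
      rw [← conjFun_mul]
      exact (mem_inertia_iff L).1 (hT.symm ▸ hg)
    have h2 : IsInv (restrictAct act L hL) (conjFun L c (ν : L → ℂ)) := fun a x => by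
      show (ν : L → ℂ) _ = (ν : L → ℂ) _
      rw [← hν a ⟨c * (x : G) * c⁻¹, _⟩]
      refine congrArg (ν : L → ℂ) (Subtype.ext ?_)
      show c * act a x * c⁻¹ = act a (c * x * c⁻¹)
      rw [map_mul, map_mul, map_inv, hc]
    have h3 := congrArg Subtype.val (hconj ⟨_, IsIrrCharacter.conjFun L ν.2 c⟩ ν h2 hν k hk h1)
    have hcT : c ∈ T := hT ▸ (mem_inertia_iff L).2 h3
    exact ⟨c, hc, hcT, k, hk, by simpa using T.mul_mem (T.inv_mem hcT) hg, rfl⟩
  -- the data in the inertia group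
  let L1 := L.subgroupOf T
  let H1 := H.subgroupOf T
  haveI : Fintype L1 := Fintype.ofFinite _
  haveI : Fintype H1 := Fintype.ofFinite _
  haveI : Fintype (T.subgroupOf H) := Fintype.ofFinite _
  haveI : (K.subgroupOf T).Normal := Subgroup.Normal.subgroupOf inferInstance T
  haveI : L1.Normal := Subgroup.Normal.subgroupOf inferInstance T
  let actT : A →* MulAut T := restrictAct act T hTA
  let i : L1 ≃* L := Subgroup.subgroupOfEquivOfLe hLT
  let ν1 : IrrCharacter L1 := transIrr i.symm ν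
  have hν1 : ∀ x : L1, (ν1 : L1 → ℂ) x = (ν : L → ℂ) (i x) := fun x => rfl
  have hν1G : ∀ g : T, conjFun L1 g (ν1 : L1 → ℂ) = (ν1 : L1 → ℂ) := fun g => funext fun x => by
    have h1 : (g : G) ∈ inertia L (ν : L → ℂ) := hT.symm ▸ g.2
    exact congrFun ((mem_inertia_iff L).1 h1) (i x)
  have hsub : ∀ f : T → ℂ, classInner (fun x : L1 => f x) (ν1 : L1 → ℂ) =
      classInner (fun n : L => f ⟨n, hLT n.2⟩) (ν : L → ℂ) := fun f =>
    classInner_subgroupOf L T hLT f (ν : L → ℂ)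
  obtain ⟨ha, hb, hc⟩ := correspondence_over (G := T)
    (hodd.of_dvd_nat (Subgroup.card_subgroup_dvd_card T))
    (hcop.coprime_dvd_left (Subgroup.card_subgroup_dvd_card T)) actT (K.subgroupOf T) L1 H1
    (fun x hx => hLK hx) (fun x hx => hLH hx) (fun a k hk => hK a _ hk) (fun a x hx => hL a _ hx)
    (fun a ha b hb => hab _ ha _ hb) (fun k hk h => hfix _ hk h)
    (fun h hh => by
      obtain ⟨x, hx, c, hc, he⟩ := hH _ hh
      have hcT : c ∈ T := by
        have he' : (h : G) = x * c := he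
        rw [show c = x⁻¹ * (h : G) by rw [he', inv_mul_cancel_left]]
        exact T.mul_mem (T.inv_mem (hLT hx)) h.2
      exact ⟨⟨x, hLT hx⟩, hx, ⟨c, hcT⟩, fun a => Subtype.ext (hc a), Subtype.ext he⟩)
    (fun g => by
      obtain ⟨c, hc, hcT, k, hk, hkT, he⟩ := hTdec g g.2
      exact ⟨⟨c, hcT⟩, hfixH c hc, ⟨k, hkT⟩, hk, Subtype.ext he⟩)
    ν1 hν1G (fun a x y hy => hνA a (i x) (i y) (congrArg Subtype.val hy))
  -- Clifford's correspondence in `H`
  let N := L.subgroupOf H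
  haveI : Fintype N := Fintype.ofFinite _
  haveI : N.Normal := Subgroup.Normal.subgroupOf inferInstance H
  let iH : N ≃* L := Subgroup.subgroupOfEquivOfLe hLH
  let νH : IrrCharacter N := transIrr iH.symm ν
  have hTH : inertia N (νH : N → ℂ) = T.subgroupOf H := by
    ext h
    rw [Subgroup.mem_subgroupOf, ← hT, mem_inertia_iff, mem_inertia_iff]
    constructor
    · exact fun hh => funext fun x => congrFun hh (iH.symm x)
    · exact fun hh => funext fun x => congrFun hh (iH x)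
  have hNT : N ≤ T.subgroupOf H := fun x hx => hLT hx
  have hHA : ∀ a, ∀ t ∈ T.subgroupOf H, HA a t ∈ T.subgroupOf H := fun a t ht => hTA a _ ht
  have hNA : ∀ a, ∀ t ∈ N, HA a t ∈ N := fun a t ht => hL a _ ht
  have hνHA : ∀ a, ∀ x y : N, (y : H) = HA a x → (νH : N → ℂ) y = (νH : N → ℂ) x :=
    fun a x y hy => hνA a (iH x) (iH y) (congrArg Subtype.val hy)
  have hsubH : ∀ f : H → ℂ, classInner (fun x : N => f x) (νH : N → ℂ) =
      classInner (fun n : L => f ⟨n, hLH n.2⟩) (ν : L → ℂ) := fun f =>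
    classInner_subgroupOf L H hLH f (ν : L → ℂ)
  let eM : H1 ≃* T.subgroupOf H :=
    { toFun := fun y => ⟨⟨((y : T) : G), y.2⟩, (y : T).2⟩
      invFun := fun x => ⟨⟨((x : H) : G), x.2⟩, (x : H).2⟩
      left_inv := fun x => rfl
      right_inv := fun y => rfl
      map_mul' := fun _ _ => rfl }
  have hNb : ∀ β : IrrCharacter (T.subgroupOf H),
      classInner (fun n : N => (β : T.subgroupOf H → ℂ) ⟨n, hNT n.2⟩) (νH : N → ℂ) =
      classInner (fun n : L => (β : T.subgroupOf H → ℂ) ⟨⟨n, hLH n.2⟩, hLT n.2⟩) (ν : L → ℂ) := by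
    intro β
    rw [classInner, classInner, Nat.card_congr iH.toEquiv]
    congr 1
    exact Fintype.sum_equiv iH.toEquiv _ _ fun x => rfl
  have hNc : ∀ γ : IrrCharacter H1,
      classInner (fun x : L1 => (γ : H1 → ℂ) ⟨x, hLH x.2⟩) (ν1 : L1 → ℂ) =
      classInner (fun n : L => (γ : H1 → ℂ) ⟨⟨n, hLT n.2⟩, hLH n.2⟩) (ν : L → ℂ) := by
    intro γ
    rw [classInner, classInner, Nat.card_congr i.toEquiv]
    congr 1
    exact Fintype.sum_equiv i.toEquiv _ _ fun x => rfl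
  -- descent
  have hdown : ∀ ψ : IrrCharacter H, IsInv HA (ψ : H → ℂ) →
      classInner (fun x : L => (ψ : H → ℂ) ⟨x, hLH x.2⟩) (ν : L → ℂ) ≠ 0 →
      ∃ γ : IrrCharacter H1,
        (∀ a, ∀ y y' : H1, (y' : T) = actT a y → (γ : H1 → ℂ) y' = (γ : H1 → ℂ) y) ∧
        classInner (fun x : L1 => (γ : H1 → ℂ) ⟨x, hLH x.2⟩) (ν1 : L1 → ℂ) ≠ 0 ∧
        indFun (T.subgroupOf H) (transIrr eM γ : T.subgroupOf H → ℂ) = (ψ : H → ℂ) := by
    intro ψ hψ hψν
    obtain ⟨β, hβA, hβν, hβc⟩ := clifford_down HA N (T.subgroupOf H) hNT νH hTH hNA hHA hνHA ψ hψ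
      (by rw [hsubH]; exact hψν)
    obtain ⟨hind, -, -, -⟩ := clifford_unique N (T.subgroupOf H) νH hTH hNT ψ β hβν hβc
    refine ⟨transIrr eM.symm β, fun a y y' hy => ?_, ?_, ?_⟩
    · show (β : T.subgroupOf H → ℂ) (eM y') = (β : T.subgroupOf H → ℂ) (eM y)
      rw [← hβA a (eM y)]
      exact congrArg (β : T.subgroupOf H → ℂ) (Subtype.ext (Subtype.ext (show ((y' : T) : G) = act a ((y : T) : G) from congrArg Subtype.val hy)))
    · rw [hNc]
      rw [hNb] at hβν
      exact hβν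
    · rw [Cfsg.Agent.Lib.BrauerPairs.transIrr_symm]
      exact hind
  have hkey : ∀ (χ : IrrCharacter G) (ξ : IrrCharacter T),
      classInner (fun n : L => (ξ : T → ℂ) ⟨n, hLT n.2⟩) (ν : L → ℂ) ≠ 0 →
      classInner (fun t : T => (χ : G → ℂ) t) (ξ : T → ℂ) ≠ 0 →
      ∀ (ψ : IrrCharacter H) (γ : IrrCharacter H1),
        classInner (fun x : L1 => (γ : H1 → ℂ) ⟨x, hLH x.2⟩) (ν1 : L1 → ℂ) ≠ 0 →
        indFun (T.subgroupOf H) (transIrr eM γ : T.subgroupOf H → ℂ) = (ψ : H → ℂ) →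
        (OddMult H (χ : G → ℂ) (ψ : H → ℂ) ↔ OddMult H1 (ξ : T → ℂ) (γ : H1 → ℂ)) := by
    intro χ ξ hξ hχξ ψ γ hγ hind
    have h := classInner_clifford L T hLT ν hT H hLH χ ξ hξ hχξ ψ (transIrr eM γ) γ
      (fun x y hxy => by
        rw [show x = eM y from Subtype.ext (Subtype.ext hxy), transIrr_apply]) hind
      (by rw [← hNc]; exact hγ)
    unfold OddMult
    rw [h]
  refine ⟨fun χ hχ hχν => ?_, fun χ χ' hχ hχ' h h' ψ hψ hψν ho ho' => ?_, fun ψ hψ hψν => ?_⟩
  · obtain ⟨ξ, hξA, hξν, hξc⟩ := clifford_down act L T hLT ν hT hL hTA hνA χ hχ hχν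
    obtain ⟨γ, hγA, hγν, hγo, hγu⟩ := ha ξ hξA (by rw [hsub]; exact hξν)
    obtain ⟨ψ, hψA, hind, -, -⟩ := clifford_up HA N (T.subgroupOf H) hNT νH hTH hHA (transIrr eM γ)
      (fun a x => by
        show (γ : H1 → ℂ) (eM.symm _) = (γ : H1 → ℂ) (eM.symm x)
        exact hγA a _ _ (Subtype.ext rfl))
      (by
        rw [hNb]
        rw [hNc] at hγν
        exact hγν)
    refine ⟨ψ, hψA, (hkey χ ξ hξν hξc ψ γ hγν hind).2 hγo, fun ψ' hψ' hψ'ν ho => ?_⟩
    obtain ⟨γ', -, hγ'ν, hind'⟩ := hdown ψ' hψ' hψ'ν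
    have hg : γ' = γ := hγu γ' ((hkey χ ξ hξν hξc ψ' γ' hγ'ν hind').1 ho)
    exact Subtype.ext (by rw [← hind', hg, hind])
  · obtain ⟨γ, -, hγν, hind⟩ := hdown ψ hψ hψν
    obtain ⟨ξ, hξA, hξν, hξc⟩ := clifford_down act L T hLT ν hT hL hTA hνA χ hχ h
    obtain ⟨ξ', hξA', hξν', hξc'⟩ := clifford_down act L T hLT ν hT hL hTA hνA χ' hχ' h'
    have he : ξ = ξ' := hb ξ ξ' hξA hξA' (by rw [hsub]; exact hξν) (by rw [hsub]; exact hξν') γ
      ((hkey χ ξ hξν hξc ψ γ hγν hind).1 ho) ((hkey χ' ξ' hξν' hξc' ψ γ hγν hind).1 ho')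
    subst he
    exact Subtype.ext ((clifford_unique L T ν hT hLT χ ξ hξν hξc).1.symm.trans
      (clifford_unique L T ν hT hLT χ' ξ hξν hξc').1)
  · obtain ⟨γ, hγA, hγν, hind⟩ := hdown ψ hψ hψν
    obtain ⟨ξ, hξA, hξν, hξo⟩ := hc γ hγA hγν
    rw [hsub] at hξν
    obtain ⟨χ, hχA, -, -, hχc⟩ := clifford_up act L T hLT ν hT hTA ξ hξA hξν
    exact ⟨χ, hχA, (hkey χ ξ hξν hχc ψ γ hγν hind).2 hξo⟩

set_option maxHeartbeats 800000 in
/-- The correspondence for an abelian section in a group of odd order. -/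
theorem odd_section_correspondence (hsolv : Group.IsSolvable G) (hodd : Odd (Nat.card G))
    (hcop : (Nat.card G).Coprime (Nat.card A))
    (act : A →* MulAut G) (K L H : Subgroup G) [K.Normal] [L.Normal] [Fintype H]
    (hLK : L ≤ K) (hLH : L ≤ H) (hK : ∀ a, ∀ k ∈ K, act a k ∈ K) (hL : ∀ a, ∀ x ∈ L, act a x ∈ L)
    (hab : ∀ a ∈ K, ∀ b ∈ K, a * b * a⁻¹ * b⁻¹ ∈ L)
    (hH : ∀ h ∈ H, ∃ x ∈ L, ∃ c, (∀ a, act a c = c) ∧ h = x * c)
    (hfixH : ∀ c, (∀ a, act a c = c) → c ∈ H)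
    (hG : ∀ g : G, ∃ k ∈ K, ∃ c, (∀ a, act a c = c) ∧ g = k * c) :
    let HA := restrictAct act H (act_mem_of_decomp act hLH hL hH)
    (∀ χ : IrrCharacter G, IsInv act (χ : G → ℂ) →
      ∃! ψ : IrrCharacter H, IsInv HA (ψ : H → ℂ) ∧ OddMult H (χ : G → ℂ) (ψ : H → ℂ)) ∧
    (∀ χ χ' : IrrCharacter G, IsInv act (χ : G → ℂ) → IsInv act (χ' : G → ℂ) →
      ∀ ψ : IrrCharacter H, IsInv HA (ψ : H → ℂ) →
        OddMult H (χ : G → ℂ) (ψ : H → ℂ) → OddMult H (χ' : G → ℂ) (ψ : H → ℂ) → χ = χ') ∧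
    (∀ ψ : IrrCharacter H, IsInv HA (ψ : H → ℂ) →
      ∃ χ : IrrCharacter G, IsInv act (χ : G → ℂ) ∧
        OddMult H (χ : G → ℂ) (ψ : H → ℂ)) := by
  classical
  intro HA
  haveI := Fintype.ofFinite A
  haveI : Fintype L := Fintype.ofFinite _
  -- the displacements
  set K₀ : Subgroup G := Subgroup.closure ({x | ∃ a, ∃ k ∈ K, x = act a k * k⁻¹} ∪ (L : Set G)) with hK₀
  have hLK₀ : L ≤ K₀ := fun x hx => Subgroup.subset_closure (Or.inr hx)
  have hK₀K : K₀ ≤ K := by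
    rw [hK₀, Subgroup.closure_le]
    rintro x (⟨a, k, hk, rfl⟩ | hx)
    · exact K.mul_mem (hK a k hk) (K.inv_mem hk)
    · exact hLK hx
  have hdisp : ∀ a, ∀ k ∈ K, act a k * k⁻¹ ∈ K₀ := fun a k hk =>
    Subgroup.subset_closure (Or.inl ⟨a, k, hk, rfl⟩)
  haveI hK₀n : K₀.Normal := ⟨fun u hu g => by
    obtain ⟨k, hk, c, hc, rfl⟩ := hG g
    have h1 : c * u * c⁻¹ ∈ K₀ := by
      induction hu using Subgroup.closure_induction with
      | mem x hx =>
        rcases hx with ⟨a, j, hj, rfl⟩ | hx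
        · have h2 := hdisp a (c * j * c⁻¹) ((inferInstance : K.Normal).conj_mem j hj c)
          rw [map_mul, map_mul, map_inv, hc] at h2
          simpa [mul_assoc] using h2
        · exact hLK₀ ((inferInstance : L.Normal).conj_mem x hx c)
      | one => simp
      | mul x y _ _ hx hy => simpa [mul_assoc] using K₀.mul_mem hx hy
      | inv x _ hx => simpa [mul_assoc] using K₀.inv_mem hx
    have h2 := hLK₀ (hab k hk _ (hK₀K h1))
    have h3 := K₀.mul_mem h2 h1
    simpa [mul_assoc] using h3⟩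
  have hK₀A : ∀ a, ∀ k ∈ K₀, act a k ∈ K₀ := by
    intro a k hk
    have h := hdisp a k (hK₀K hk)
    have h2 := K₀.mul_mem h hk
    rwa [inv_mul_cancel_right] at h2
  have hcK : (Nat.card K).Coprime (Nat.card A) :=
    hcop.coprime_dvd_left (Subgroup.card_subgroup_dvd_card K)
  haveI : (L.subgroupOf K).Normal := Subgroup.Normal.subgroupOf inferInstance K
  haveI : (K₀.subgroupOf K).Normal := Subgroup.Normal.subgroupOf inferInstance K
  let uA := restrictAct act K hK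
  have hfix : ∀ k ∈ K₀, (∀ a, act a k * k⁻¹ ∈ L) → k ∈ L := by
    intro k hk hka
    have hab' : ∀ a b : K ⧸ L.subgroupOf K, a * b = b * a := fun x y => by
      obtain ⟨a, rfl⟩ := QuotientGroup.mk_surjective x
      obtain ⟨b, rfl⟩ := QuotientGroup.mk_surjective y
      rw [← QuotientGroup.mk_mul, ← QuotientGroup.mk_mul, QuotientGroup.eq]
      show (((a * b)⁻¹ * (b * a) : K) : G) ∈ L
      have h := hab (b : G)⁻¹ (K.inv_mem b.2) (a : G)⁻¹ (K.inv_mem a.2)
      simpa [mul_assoc] using h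
    letI : CommGroup (K ⧸ L.subgroupOf K) :=
      { (inferInstance : Group (K ⧸ L.subgroupOf K)) with mul_comm := hab' }
    let α := quotAct uA (L.subgroupOf K) (fun a x hx => hL a _ hx)
    have hmem : K₀ ≤ ((Subgroup.closure {x : K ⧸ L.subgroupOf K | ∃ a w, x = α a w * w⁻¹}).comap
        (QuotientGroup.mk' (L.subgroupOf K))).map K.subtype := by
      rw [hK₀, Subgroup.closure_le]
      rintro x (⟨a, j, hj, rfl⟩ | hx)
      · refine ⟨⟨_, K.mul_mem (hK a j hj) (K.inv_mem hj)⟩, Subgroup.subset_closure ⟨a,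
          QuotientGroup.mk' _ (⟨j, hj⟩ : K), ?_⟩, rfl⟩
        show ((⟨act a j * j⁻¹, _⟩ : K) : K ⧸ L.subgroupOf K) = ((uA a ⟨j, hj⟩ * (⟨j, hj⟩ : K)⁻¹ : K) : K ⧸ L.subgroupOf K)
        rfl
      · refine ⟨⟨x, hLK hx⟩, ?_, rfl⟩
        show ((⟨x, hLK hx⟩ : K) : K ⧸ L.subgroupOf K) ∈
          Subgroup.closure {z : K ⧸ L.subgroupOf K | ∃ a w, z = α a w * w⁻¹}
        rw [(QuotientGroup.eq_one_iff _).2 (show (⟨x, hLK hx⟩ : K) ∈ L.subgroupOf K from hx)]
        exact Subgroup.one_mem _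
    obtain ⟨j, hj, hjk⟩ := hmem hk
    have h := eq_one_of_mem_closure_moves α
      (hcK.coprime_dvd_left (L.subgroupOf K).card_quotient_dvd_card) hj fun a => by
        show ((uA a j : K) : K ⧸ L.subgroupOf K) = (j : K ⧸ L.subgroupOf K)
        rw [← mul_inv_eq_one, ← QuotientGroup.mk_inv, ← QuotientGroup.mk_mul, QuotientGroup.eq_one_iff]
        show act a (j : G) * (j : G)⁻¹ ∈ L
        rw [show (j : G) = k from hjk]
        exact hka a
    rw [← hjk]
    exact (QuotientGroup.eq_one_iff j).1 h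
  have hG₀ : ∀ g : G, ∃ c, (∀ a, act a c = c) ∧ ∃ k ∈ K₀, g = c * k := by
    intro g
    obtain ⟨k, hk, c, hc, rfl⟩ := hG g
    obtain ⟨n, hn, hnf⟩ := Cfsg.Agent.Lib.Coprime.exists_fixed_of_fixed_coset uA hcK.symm
      (Or.inr inferInstance) (N := K₀.subgroupOf K) (fun a x hx => hK₀A a _ hx) (⟨k, hk⟩ : K)
      fun a => hdisp a k hk
    refine ⟨k * n * c, fun a => ?_, c⁻¹ * (n : G)⁻¹ * c, ?_, by group⟩
    · have h := congrArg Subtype.val (hnf a)
      rw [map_mul, hc]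
      exact congrArg (· * c) h
    · simpa using hK₀n.conj_mem _ (K₀.inv_mem (show (n : G) ∈ K₀ from hn)) c⁻¹
  have hab₀ : ∀ a ∈ K₀, ∀ b ∈ K₀, a * b * a⁻¹ * b⁻¹ ∈ L := fun a ha b hb =>
    hab a (hK₀K ha) b (hK₀K hb)
  -- conjugate invariant characters of `L`
  haveI : (L.subgroupOf K₀).Normal := Subgroup.Normal.subgroupOf inferInstance K₀
  let V := K₀ ⧸ L.subgroupOf K₀
  letI : CommGroup V := { (inferInstance : Group V) with
    mul_comm := fun x y => by
      obtain ⟨a, rfl⟩ := QuotientGroup.mk_surjective x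
      obtain ⟨b, rfl⟩ := QuotientGroup.mk_surjective y
      rw [← QuotientGroup.mk_mul, ← QuotientGroup.mk_mul, QuotientGroup.eq]
      show (((a * b)⁻¹ * (b * a) : K₀) : G) ∈ L
      have h := hab₀ (b : G)⁻¹ (K₀.inv_mem b.2) (a : G)⁻¹ (K₀.inv_mem a.2)
      simpa [mul_assoc] using h }
  let ρ₀ : K₀ →* Equiv.Perm (IrrCharacter L) :=
    { toFun := fun k =>
        { toFun := fun η => ⟨_, IsIrrCharacter.conjFun L η.2 ((k : G)⁻¹)⟩
          invFun := fun η => ⟨_, IsIrrCharacter.conjFun L η.2 (k : G)⟩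
          left_inv := fun η => Subtype.ext (by
            show conjFun L (k : G) (conjFun L (k : G)⁻¹ (η : L → ℂ)) = η
            rw [← conjFun_mul, inv_mul_cancel, conjFun_one])
          right_inv := fun η => Subtype.ext (by
            show conjFun L (k : G)⁻¹ (conjFun L (k : G) (η : L → ℂ)) = η
            rw [← conjFun_mul, mul_inv_cancel, conjFun_one]) }
      map_one' := Equiv.ext fun η => Subtype.ext (by
        show conjFun L ((1 : K₀) : G)⁻¹ (η : L → ℂ) = η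
        rw [OneMemClass.coe_one, inv_one, conjFun_one])
      map_mul' := fun k j => Equiv.ext fun η => Subtype.ext (by
        show conjFun L ((k * j : K₀) : G)⁻¹ (η : L → ℂ) =
          conjFun L (k : G)⁻¹ (conjFun L (j : G)⁻¹ (η : L → ℂ))
        rw [Subgroup.coe_mul, _root_.mul_inv_rev, conjFun_mul]) }
  let ρV : V →* Equiv.Perm (IrrCharacter L) := QuotientGroup.lift _ ρ₀ fun x hx =>
    MonoidHom.mem_ker.2 (Equiv.ext fun η => Subtype.ext
      (conjFun_of_mem L (irr_isClassFunction η) (L.inv_mem hx)))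
  letI : MulAction V (IrrCharacter L) := MulAction.compHom (IrrCharacter L) ρV
  let rL := restrictAct act L hL
  letI : MulAction A (IrrCharacter L) :=
    { smul := fun a η => transIrr (rL a) η
      one_smul := fun η => Subtype.ext (funext fun g => by
        show (η : L → ℂ) ((rL 1).symm g) = _
        rw [map_one]; rfl)
      mul_smul := fun a b η => Subtype.ext (funext fun g => by
        show (η : L → ℂ) ((rL (a * b)).symm g) = (η : L → ℂ) ((rL b).symm ((rL a).symm g))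
        rw [map_mul]; rfl) }
  let β := quotAct (restrictAct act K₀ hK₀A) (L.subgroupOf K₀) (fun a x hx => hL a _ hx)
  have hβ : ∀ (a : A) (v : V) (η : IrrCharacter L), a • v • η = β a v • a • η := by
    intro a v η
    obtain ⟨k, rfl⟩ := QuotientGroup.mk_surjective v
    refine Subtype.ext (funext fun x => ?_)
    obtain ⟨y, rfl⟩ := (rL a).surjective x
    show (η : L → ℂ) _ = (η : L → ℂ) _
    refine congrArg (η : L → ℂ) ((rL a).injective (Subtype.ext ?_))
    simp only [MulEquiv.apply_symm_apply]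
    show act a (((k : G)⁻¹ * ((rL a).symm (rL a y) : L) * ((k : G)⁻¹)⁻¹)) =
      (act a (k : G))⁻¹ * (act a (y : G)) * ((act a (k : G))⁻¹)⁻¹
    simp only [MulEquiv.symm_apply_apply, map_mul, map_inv]
  have hsm : ∀ (k : K₀) (η : IrrCharacter L),
      (((k : V) • η : IrrCharacter L) : L → ℂ) = conjFun L (k : G)⁻¹ (η : L → ℂ) := fun k η => rfl
  have hconj : ∀ (ν ν' : IrrCharacter L), IsInv rL (ν : L → ℂ) → IsInv rL (ν' : L → ℂ) →
      ∀ k ∈ K₀, conjFun L k (ν : L → ℂ) = (ν' : L → ℂ) → ν = ν' := by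
    intro ν ν' hν hν' k hk he
    let v : V := ((⟨k, hk⟩ : K₀)⁻¹ : K₀)
    have hv : v • ν = ν' := Subtype.ext (by rw [hsm, Subgroup.coe_inv, inv_inv]; exact he)
    have hst : v ∈ MulAction.stabilizer V ν := by
      refine mem_of_moves β ((hcop.coprime_dvd_left ?_)) ?_ _ fun a => ?_
      · exact ((L.subgroupOf K₀).card_quotient_dvd_card).trans (Subgroup.card_subgroup_dvd_card K₀)
      · intro w hw
        obtain ⟨j, rfl⟩ := QuotientGroup.mk_surjective w
        rw [QuotientGroup.eq_one_iff]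
        refine hfix j j.2 fun a => ?_
        have h : ((restrictAct act K₀ hK₀A a j : K₀) : V) = (j : V) := hw a
        rw [← mul_inv_eq_one, ← QuotientGroup.mk_inv, ← QuotientGroup.mk_mul,
          QuotientGroup.eq_one_iff] at h
        exact h
      · rw [MulAction.mem_stabilizer_iff, mul_comm, mul_smul, inv_smul_eq_iff]
        have h1 : a • ν = ν := (transIrr_eq_self_iff (rL a) ν).2 (hν a)
        have h2 : a • ν' = ν' := (transIrr_eq_self_iff (rL a) ν').2 (hν' a)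
        rw [← hv, hβ, h1] at h2
        exact h2.symm
    rw [← hv, MulAction.mem_stabilizer_iff.1 hst]
  have hn : ∀ v : V, v ^ Nat.card K₀ = 1 := fun v => by
    obtain ⟨j, rfl⟩ := QuotientGroup.mk_surjective v
    rw [← QuotientGroup.mk_pow, pow_card_eq_one', QuotientGroup.mk_one]
  -- invariant characters of `L` below invariant characters of `G`
  have hbelow : ∀ χ : IrrCharacter G, IsInv act (χ : G → ℂ) → ∃ ν : IrrCharacter L,
      IsInv rL (ν : L → ℂ) ∧ classInner (fun x : L => (χ : G → ℂ) x) (ν : L → ℂ) ≠ 0 := by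
    intro χ hχ
    haveI : Fintype K₀ := Fintype.ofFinite _
    haveI : Fintype (L.subgroupOf K₀) := Fintype.ofFinite _
    obtain ⟨η, hη⟩ := exists_constituent_restrict K₀ χ
    have hηA := constituent_isInv act hcop K₀ hK₀A (fun g => by
      obtain ⟨c, hc, k, hk, rfl⟩ := hG₀ g
      exact ⟨c * k * c⁻¹, hK₀n.conj_mem k hk c, c, hc, by group⟩) χ hχ η hη
    obtain ⟨μ, hμ⟩ := exists_constituent_restrict (L.subgroupOf K₀) η
    let i : L.subgroupOf K₀ ≃* L := Subgroup.subgroupOfEquivOfLe hLK₀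
    let ν₀ : IrrCharacter L := transIrr i μ
    let F : L → ℂ := fun x => (η : K₀ → ℂ) ⟨x, hLK₀ x.2⟩
    have hF : ∀ ν : IrrCharacter L, classInner F (ν : L → ℂ) =
        classInner (fun x : L.subgroupOf K₀ => (η : K₀ → ℂ) x) (transIrr i.symm ν : _ → ℂ) :=
      fun ν => (classInner_subgroupOf L K₀ hLK₀ (η : K₀ → ℂ) (ν : L → ℂ)).symm
    have hν₀ : classInner F (ν₀ : L → ℂ) ≠ 0 := by
      rw [hF, show transIrr i.symm ν₀ = μ from Cfsg.Agent.Lib.BrauerPairs.transIrr_symm i.symm μ]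
      exact hμ
    have hFA : ∀ a x, F (rL a x) = F x := fun a x => hηA a ⟨x, hLK₀ x.2⟩
    have hmove : ∀ a : A, ∃ v : V, a • ν₀ = v • ν₀ := by
      intro a
      have h1 : classInner F ((a • ν₀ : IrrCharacter L) : L → ℂ) ≠ 0 := by
        have h2 : classInner F ((a • ν₀ : IrrCharacter L) : L → ℂ) = classInner F (ν₀ : L → ℂ) := by
          conv_lhs => rw [show F = F ∘ (rL a).symm from funext fun x => by
            conv_lhs => rw [← (rL a).apply_symm_apply x]
            exact hFA a _]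
          exact classInner_comp_equiv (rL a).symm F (ν₀ : L → ℂ)
        rw [h2]
        exact hν₀
      rw [hF] at h1
      obtain ⟨g, hg⟩ := exists_conjFun_eq (L.subgroupOf K₀) η.2 μ.2
        (transIrr i.symm (a • ν₀)).2 hμ h1
      refine ⟨((g⁻¹ : K₀) : V), Subtype.ext (funext fun x => ?_)⟩
      rw [hsm, Subgroup.coe_inv, inv_inv]
      exact (congrFun hg (i.symm x)).symm
    obtain ⟨v, hv⟩ := exists_fixed_of_abelian (S := A) hn
      (by rw [← Nat.card_eq_fintype_card]; exact hcop.coprime_dvd_left (Subgroup.card_subgroup_dvd_card K₀))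
      (fun a => (β a).toMonoidHom) hβ ν₀ hmove
    refine ⟨v • ν₀, fun a => (transIrr_eq_self_iff (rL a) _).1 (hv a), ?_⟩
    obtain ⟨g, rfl⟩ := QuotientGroup.mk_surjective v
    rw [hsm, classInner_restrict_conjFun L (irr_isClassFunction χ)]
    obtain ⟨η', hη', hdec⟩ := IsCharacter.exists_add_of_classInner_ne_zero
      (IsCharacter.restrict (irr_isCharacter χ) K₀) η.2 hη
    let j := Subgroup.inclusion hLK₀
    have h2 := IsCharacter.classInner_ne_zero_of_add (IsCharacter.comp (irr_isCharacter η) j)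
      (IsCharacter.comp hη' j) (irr_isCharacter ν₀) hν₀
    rw [show (fun x : L => (χ : G → ℂ) x) = (η : K₀ → ℂ) ∘ j + η' ∘ j from
      funext fun x => congrFun hdec (j x)]
    exact h2
  -- invariant characters of `L` below invariant characters of `H`
  have hbelowH : ∀ ψ : IrrCharacter H, IsInv HA (ψ : H → ℂ) → ∃ ν : IrrCharacter L,
      IsInv rL (ν : L → ℂ) ∧
        classInner (fun x : L => (ψ : H → ℂ) ⟨x, hLH x.2⟩) (ν : L → ℂ) ≠ 0 := by
    intro ψ hψ
    haveI : Fintype (L.subgroupOf H) := Fintype.ofFinite _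
    haveI : (L.subgroupOf H).Normal := Subgroup.Normal.subgroupOf inferInstance H
    obtain ⟨μ, hμ⟩ := exists_constituent_restrict (L.subgroupOf H) ψ
    have hμA := constituent_isInv HA (hcop.coprime_dvd_left (Subgroup.card_subgroup_dvd_card H))
      (L.subgroupOf H) (fun a x hx => hL a _ hx) (fun h => by
        obtain ⟨x, hx, c, hc, he⟩ := hH h h.2
        exact ⟨⟨x, hLH hx⟩, hx, ⟨c, hfixH c hc⟩, fun a => Subtype.ext (hc a), Subtype.ext he⟩) ψ hψ μ hμ
    let i : L.subgroupOf H ≃* L := Subgroup.subgroupOfEquivOfLe hLH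
    refine ⟨transIrr i μ, fun a x => ?_, ?_⟩
    · show (μ : L.subgroupOf H → ℂ) (i.symm _) = (μ : L.subgroupOf H → ℂ) (i.symm x)
      exact hμA a (i.symm x)
    · rw [← classInner_subgroupOf L H hLH (ψ : H → ℂ)]
      rw [show (fun x : L.subgroupOf H => (transIrr i μ : L → ℂ) (i x)) = (μ : L.subgroupOf H → ℂ)
        from funext fun x => transIrr_apply i μ x]
      exact hμ
  have hlift : ∀ (χ : IrrCharacter G) (ψ : IrrCharacter H) (ν : IrrCharacter L),
      OddMult H (χ : G → ℂ) (ψ : H → ℂ) →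
      classInner (fun x : L => (ψ : H → ℂ) ⟨x, hLH x.2⟩) (ν : L → ℂ) ≠ 0 →
      classInner (fun x : L => (χ : G → ℂ) x) (ν : L → ℂ) ≠ 0 := by
    intro χ ψ ν ho hν
    obtain ⟨m, hm, hm'⟩ := ho
    obtain ⟨ψ', hψ', hdec⟩ := IsCharacter.exists_add_of_classInner_ne_zero
      (IsCharacter.restrict (irr_isCharacter χ) H) ψ.2 (by
        rw [hm, Nat.cast_ne_zero]
        rintro rfl
        exact absurd hm' (by decide))
    let j := Subgroup.inclusion hLH
    have h2 := IsCharacter.classInner_ne_zero_of_add (IsCharacter.comp (irr_isCharacter ψ) j)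
      (IsCharacter.comp hψ' j) (irr_isCharacter ν) hν
    rw [show (fun x : L => (χ : G → ℂ) x) = (ψ : H → ℂ) ∘ j + ψ' ∘ j from
      funext fun x => congrFun hdec (j x)]
    exact h2
  have main := fun (ν : IrrCharacter L) (hν : IsInv rL (ν : L → ℂ)) =>
    correspondence_at hodd hcop act K₀ L H hLK₀ hLH hK₀A hL hab₀ hfix hH hfixH hG₀ hconj ν hν
  refine ⟨fun χ hχ => ?_, fun χ χ' hχ hχ' ψ hψ ho ho' => ?_, fun ψ hψ => ?_⟩
  · obtain ⟨ν, hν, hχν⟩ := hbelow χ hχ
    obtain ⟨ψ, hψA, hψo, hψu⟩ := (main ν hν).1 χ hχ hχν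
    refine ⟨ψ, ⟨hψA, hψo⟩, fun ψ' hψ' => hψu ψ' hψ'.1 ?_ hψ'.2⟩
    obtain ⟨ν', hν', hψν'⟩ := hbelowH ψ' hψ'.1
    have hχν' := hlift χ ψ' ν' hψ'.2 hψν'
    obtain ⟨g, hg⟩ := exists_conjFun_eq L χ.2 ν.2 ν'.2 hχν hχν'
    obtain ⟨c, hc, k, hk, rfl⟩ := hG₀ g
    rw [conjFun_mul] at hg
    have hcI : IsInv rL (conjFun L c (ν : L → ℂ)) := fun a x => by
      show (ν : L → ℂ) _ = (ν : L → ℂ) _
      rw [← hν a ⟨c * (x : G) * c⁻¹, _⟩]
      refine congrArg (ν : L → ℂ) (Subtype.ext ?_)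
      show c * act a x * c⁻¹ = act a (c * x * c⁻¹)
      rw [map_mul, map_mul, map_inv, hc]
    have he := congrArg Subtype.val (hconj ⟨_, IsIrrCharacter.conjFun L ν.2 c⟩ ν' hcI hν' k hk hg)
    rw [← he] at hψν'
    have hfun : (fun x : L => (ψ' : H → ℂ) ⟨x, hLH x.2⟩) =
        conjFun L c (fun x : L => (ψ' : H → ℂ) ⟨x, hLH x.2⟩) := funext fun x =>
      (irr_isClassFunction ψ' ⟨x, hLH x.2⟩ ⟨c, hfixH c hc⟩).symm
    rw [hfun, show (classInner (conjFun L c fun x : L => (ψ' : H → ℂ) ⟨x, hLH x.2⟩)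
        (⟨_, IsIrrCharacter.conjFun L ν.2 c⟩ : IrrCharacter L).1) = _ from classInner_conjFun L c _ _] at hψν'
    exact hψν'
  · obtain ⟨ν, hν, hψν⟩ := hbelowH ψ hψ
    exact (main ν hν).2.1 χ χ' hχ hχ' (hlift χ ψ ν ho hψν) (hlift χ' ψ ν ho' hψν) ψ hψ hψν ho ho'
  · obtain ⟨ν, hν, hψν⟩ := hbelowH ψ hψ
    exact (main ν hν).2.2 ψ hψ hψν

end Cfsg.Agent.Lib.OddSection
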