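import Cfsg.Agent.Lib.Characters.Basic
import Cfsg.Agent.Lib.Characters.Ortho
import Cfsg.Agent.Lib.Characters.Equiv
import Mathlib.LinearAlgebra.Matrix.Kronecker
import Mathlib.LinearAlgebra.Trace

/-!
# Matrix representations: density and isotypic restrictions
-/

set_option autoImplicit false
set_option linter.unusedSectionVars false
set_option linter.style.haveILetI false

namespace Cfsg.Agent.Lib.OddSection

open Cfsg Cfsg.Agent.Lib.Characters Matrix
open scoped Kronecker

universe u v w

variable {K : Type u} [Group K] {d n : Type*} [Fintype d] [DecidableEq d] [Fintype n] [DecidableEq n]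

/-- The representation given by a matrix representation. -/
noncomputable def mrep (R : K →* Matrix d d ℂ) : Representation ℂ K (d → ℂ) :=
  (Matrix.toLinAlgEquiv' : Matrix d d ℂ ≃ₐ[ℂ] Module.End ℂ (d → ℂ)).toAlgHom.toMonoidHom.comp R

theorem mrep_apply (R : K →* Matrix d d ℂ) (k : K) : mrep R k = Matrix.toLin' (R k) := rfl

theorem mrep_character (R : K →* Matrix d d ℂ) : (mrep R).character = fun k => (R k).trace :=
  funext fun k => by rw [Representation.character, mrep_apply, Matrix.trace_toLin'_eq]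

theorem isCharacter_trace (R : K →* Matrix d d ℂ) : IsCharacter K fun k => (R k).trace :=
  mrep_character R ▸ isCharacter_of_rep (mrep R)

/-- Every irreducible character is afforded by an irreducible matrix representation. -/
theorem exists_matrix_rep {θ : K → ℂ} (hθ : IsIrrCharacter K θ) :
    ∃ (m : ℕ) (R : K →* Matrix (Fin m) (Fin m) ℂ), (mrep R).IsIrreducible ∧
      (∀ k, (R k).trace = θ k) ∧ θ 1 = m ∧ m ≠ 0 := by
  obtain ⟨m, ρ, hρ, rfl⟩ := hθ
  let R : K →* Matrix (Fin m) (Fin m) ℂ :=
    (LinearMap.toMatrixAlgEquiv' : Module.End ℂ (Fin m → ℂ) ≃ₐ[ℂ] _).toAlgHom.toMonoidHom.comp ρ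
  have hR : mrep R = ρ := MonoidHom.ext fun k => by
    show Matrix.toLinAlgEquiv' (LinearMap.toMatrixAlgEquiv' (ρ k)) = ρ k
    simp
  refine ⟨m, R, hR ▸ hρ, fun k => ?_, by rw [ρ.char_one]; simp, ?_⟩
  · have h := congrFun (mrep_character R) k
    rw [hR] at h
    exact h.symm
  · rintro rfl
    haveI := nontrivial_of_isIrreducible ρ
    exact false_of_nontrivial_of_subsingleton (Fin 0 → ℂ)

section Irred

variable {R : K →* Matrix d d ℂ} (hR : (mrep R).IsIrreducible)

include hR in
/-- Schur's lemma. -/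
theorem eq_scalar_of_commute {T : Matrix d d ℂ} (h : ∀ k, R k * T = T * R k) :
    ∃ c : ℂ, T = c • 1 := by
  haveI := hR
  obtain ⟨c, hc⟩ := exists_smul_of_commute (mrep R) (Matrix.toLin' T) fun k => by
    rw [mrep_apply, Module.End.mul_eq_comp, Module.End.mul_eq_comp, ← Matrix.toLin'_mul,
      ← Matrix.toLin'_mul, h]
  refine ⟨c, Matrix.toLin'.injective ?_⟩
  rw [hc, map_smul, Matrix.toLin'_one]

include hR in
theorem nonempty_index : Nonempty d := by
  haveI := hR
  haveI := nontrivial_of_isIrreducible (mrep R)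
  by_contra h
  haveI := not_nonempty_iff.1 h
  exact false_of_nontrivial_of_subsingleton (d → ℂ)

include hR in
/-- A nonzero semi-invariant matrix is invertible. -/
theorem isUnit_of_semicommute {T : Matrix d d ℂ} (hT : T ≠ 0) {c : K → ℂ}
    (h : ∀ k, R k * T = c k • (T * R k)) (hc : ∀ k, c k ≠ 0) : IsUnit T := by
  rw [Matrix.isUnit_iff_isUnit_det, isUnit_iff_ne_zero]
  intro hdet
  obtain ⟨v, hv, hTv⟩ := Matrix.exists_mulVec_eq_zero_iff.2 hdet
  have hirr := (isIrreducible_iff_forall (mrep R)).1 hR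
  rcases hirr.2 (LinearMap.ker (Matrix.toLin' T)) (fun k x hx => by
    rw [LinearMap.mem_ker, Matrix.toLin'_apply] at hx ⊢
    have h1 : (c k • (T * R k)) *ᵥ x = 0 := by
      rw [← h, ← Matrix.mulVec_mulVec, hx, Matrix.mulVec_zero]
    rw [Matrix.smul_mulVec, smul_eq_zero] at h1
    rw [mrep_apply, Matrix.toLin'_apply, Matrix.mulVec_mulVec]
    exact h1.resolve_left (hc k)) with hb | ht
  · exact hv ((Submodule.mem_bot ℂ).1 (hb ▸ (by
      rw [LinearMap.mem_ker, Matrix.toLin'_apply]; exact hTv) : v ∈ (⊥ : Submodule ℂ (d → ℂ))))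
  · refine hT (Matrix.toLin'.injective ?_)
    rw [map_zero, ← LinearMap.ker_eq_top]
    exact ht

include hR in
/-- The matrices of an irreducible representation span. -/
theorem eq_sum_trace [Fintype K] (T : Matrix d d ℂ) :
    T = ((Fintype.card d : ℂ) / (Fintype.card K : ℂ)) • ∑ k, (T * R k⁻¹).trace • R k := by
  haveI := nonempty_index hR
  have hd : (Fintype.card d : ℂ) ≠ 0 := Nat.cast_ne_zero.2 Fintype.card_ne_zero
  have hK : (Fintype.card K : ℂ) ≠ 0 := Nat.cast_ne_zero.2 Fintype.card_ne_zero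
  have horth : ∀ i j l m, (Fintype.card d : ℂ) * ∑ k, R k i j * R k⁻¹ l m =
      if i = m ∧ j = l then (Fintype.card K : ℂ) else 0 := by
    intro i j l m
    set S := ∑ k, R k * Matrix.single j l (1 : ℂ) * R k⁻¹ with hS
    obtain ⟨c, hc⟩ := eq_scalar_of_commute hR (T := S) fun x => by
      rw [hS, Finset.mul_sum, Finset.sum_mul]
      refine Fintype.sum_equiv (Equiv.mulLeft x) _ _ fun k => ?_
      rw [Equiv.coe_mulLeft, _root_.mul_inv_rev, mul_assoc (R (x * k) * _), ← map_mul R (k⁻¹ * x⁻¹),
        inv_mul_cancel_right, ← mul_assoc, ← mul_assoc, ← map_mul]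
    have htr : c * (Fintype.card d : ℂ) = if j = l then (Fintype.card K : ℂ) else 0 := by
      have h1 := congrArg Matrix.trace hc
      rw [Matrix.trace_smul, Matrix.trace_one, smul_eq_mul, hS, Matrix.trace_sum] at h1
      rw [← h1, Finset.sum_congr rfl fun k _ => show (R k * Matrix.single j l (1 : ℂ) * R k⁻¹).trace =
        (Matrix.single j l (1 : ℂ)).trace by
          rw [Matrix.trace_mul_comm, ← mul_assoc, ← map_mul, inv_mul_cancel, map_one, one_mul]]
      split_ifs with hjl
      · subst hjl; simp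
      · simp [Matrix.trace_single_eq_of_ne _ _ _ hjl]
    have h2 := congrFun (congrFun hc i) m
    simp only [hS, Matrix.sum_apply, Matrix.smul_apply, smul_eq_mul] at h2
    have h3 : ∀ k, (R k * Matrix.single j l (1 : ℂ) * R k⁻¹) i m = R k i j * R k⁻¹ l m := by
      intro k
      simp [Matrix.mul_apply, Matrix.single_apply, mul_ite, ite_and]
    rw [Finset.sum_congr rfl fun k _ => (h3 k).symm, h2, Matrix.one_apply]
    by_cases him : i = m
    · subst him; simp [mul_comm _ c, htr]
    · simp [him]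
  ext i m
  simp only [Matrix.smul_apply, Matrix.sum_apply, Matrix.trace, Matrix.diag_apply, Matrix.mul_apply,
    smul_eq_mul, Finset.sum_mul, Finset.mul_sum]
  rw [Finset.sum_comm]
  refine Eq.symm ((Finset.sum_congr rfl fun a _ => Finset.sum_comm).trans ?_)
  have h4 : ∀ a b, ∑ k, (Fintype.card d : ℂ) / Fintype.card K * (T a b * R k⁻¹ b a * R k i m) =
      if i = a ∧ m = b then T a b else 0 := by
    intro a b
    calc _ = T a b / Fintype.card K * ((Fintype.card d : ℂ) * ∑ k, R k i m * R k⁻¹ b a) := by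
          rw [Finset.mul_sum, Finset.mul_sum]
          exact Finset.sum_congr rfl fun k _ => by ring
      _ = _ := by rw [horth]; split_ifs <;> simp [hK]
  simp [h4, ite_and]

include hR in
/-- Linear maps agreeing on the image of an irreducible representation agree. -/
theorem linearMap_ext_rep [Fintype K] {E : Type*} [AddCommGroup E] [Module ℂ E]
    {f g : Matrix d d ℂ →ₗ[ℂ] E} (h : ∀ k, f (R k) = g (R k)) : f = g :=
  LinearMap.ext fun T => by rw [eq_sum_trace hR T]; simp [map_sum, h]

end Irred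

/-- Representations with equal traces are equivalent. -/
theorem exists_intertwiner [Finite K] (R : K →* Matrix d d ℂ) (M : K →* Matrix n n ℂ)
    (h : ∀ k, (M k).trace = (R k).trace) :
    ∃ (P : Matrix n d ℂ) (Q : Matrix d n ℂ), P * Q = 1 ∧ Q * P = 1 ∧ ∀ k, M k * P = P * R k := by
  obtain ⟨e⟩ := nonempty_equiv_of_character_eq (mrep R) (mrep M) (by
    rw [mrep_character, mrep_character]; exact funext fun k => (h k).symm)
  let f := e.toLinearEquiv
  refine ⟨LinearMap.toMatrix' f.toLinearMap, LinearMap.toMatrix' f.symm.toLinearMap, ?_, ?_, fun k => ?_⟩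
  · rw [← LinearMap.toMatrix'_comp]; simp
  · rw [← LinearMap.toMatrix'_comp]; simp
  · refine Matrix.toLin'.injective ?_
    rw [Matrix.toLin'_mul, Matrix.toLin'_mul, Matrix.toLin'_toMatrix']
    exact (e.isIntertwining' k).symm

/-- Copies of a representation. -/
noncomputable def copies (f : ℕ) (R : K →* Matrix d d ℂ) : K →* Matrix (Fin f × d) (Fin f × d) ℂ where
  toFun k := (1 : Matrix (Fin f) (Fin f) ℂ) ⊗ₖ R k
  map_one' := by rw [map_one, one_kronecker_one]
  map_mul' a b := by rw [map_mul, ← mul_kronecker_mul, one_mul]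

/-- A representation with character a multiple of an irreducible one factors through its image. -/
theorem exists_isotypic [Fintype K] {R : K →* Matrix d d ℂ} (M : K →* Matrix n n ℂ) (f : ℕ)
    (h : ∀ k, (M k).trace = f * (R k).trace) :
    ∃ (P : Matrix n (Fin f × d) ℂ) (Q : Matrix (Fin f × d) n ℂ) (π : Matrix d d ℂ →ₐ[ℂ] Matrix n n ℂ),
      P * Q = 1 ∧ Q * P = 1 ∧ (∀ T, π T = P * ((1 : Matrix (Fin f) (Fin f) ℂ) ⊗ₖ T) * Q) ∧
      (∀ k, π (R k) = M k) ∧ (∀ T, (π T).trace = f * T.trace) := by
  obtain ⟨P, Q, hPQ, hQP, hPM⟩ := exists_intertwiner (copies f R) M fun k => by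
    rw [h]
    show _ = ((1 : Matrix (Fin f) (Fin f) ℂ) ⊗ₖ R k).trace
    rw [trace_kronecker, trace_one, Fintype.card_fin]
  refine ⟨P, Q, AlgHom.ofLinearMap
    { toFun := fun T => P * ((1 : Matrix (Fin f) (Fin f) ℂ) ⊗ₖ T) * Q
      map_add' := fun a b => by rw [kronecker_add, Matrix.mul_add, Matrix.add_mul]
      map_smul' := fun c a => by
        rw [kronecker_smul, Matrix.mul_smul, Matrix.smul_mul]; rfl } ?_ ?_,
    hPQ, hQP, fun T => rfl, fun k => ?_, fun T => ?_⟩
  · show P * ((1 : Matrix (Fin f) (Fin f) ℂ) ⊗ₖ (1 : Matrix d d ℂ)) * Q = 1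
    rw [one_kronecker_one, Matrix.mul_one, hPQ]
  · intro S T
    show P * ((1 : Matrix (Fin f) (Fin f) ℂ) ⊗ₖ (S * T)) * Q = _
    conv_lhs => rw [← one_mul (1 : Matrix (Fin f) (Fin f) ℂ), mul_kronecker_mul]
    simp only [LinearMap.coe_mk, AddHom.coe_mk, Matrix.mul_assoc]
    rw [← Matrix.mul_assoc Q P, hQP, Matrix.one_mul]
  · show P * copies f R k * Q = M k
    rw [← hPM, Matrix.mul_assoc, hPQ, Matrix.mul_one]
  · show (P * _ * Q).trace = _
    rw [Matrix.trace_mul_comm, ← Matrix.mul_assoc, hQP, Matrix.one_mul, trace_kronecker, trace_one,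
      Fintype.card_fin]

/-- A semi-invariant map between isotypic representations has semi-invariant blocks. -/
theorem block_semicommute {f f' : ℕ} {R : K →* Matrix d d ℂ}
    {B : Matrix (Fin f' × d) (Fin f × d) ℂ} {c : ℂ} {k : K}
    (hB : copies f' R k * B = c • (B * copies f R k)) (i : Fin f') (j : Fin f) :
    R k * B.submatrix (fun a => (i, a)) (fun b => (j, b)) =
      c • (B.submatrix (fun a => (i, a)) (fun b => (j, b)) * R k) := by
  ext a b
  have h := congrFun (congrFun hB (i, a)) (j, b)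
  simp only [copies, MonoidHom.coe_mk, OneHom.coe_mk, Matrix.smul_apply, Matrix.mul_apply,
    kroneckerMap_apply, Matrix.one_apply, Fintype.sum_prod_type, ite_mul, one_mul, zero_mul,
    mul_ite, mul_zero, Finset.sum_ite_eq, Finset.sum_ite_eq', Finset.sum_ite_irrel, Finset.sum_const_zero,
    Finset.mem_univ, if_true] at h
  simp only [Matrix.smul_apply, Matrix.mul_apply, Matrix.submatrix_apply]
  exact h

/-- Restriction homogeneous over an irreducible character: the commutant. -/
theorem commutant_isotypic [Fintype K] {R : K →* Matrix d d ℂ} {m : ℕ}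
    {U : K →* Matrix (Fin m) (Fin m) ℂ} (hU : (mrep U).IsIrreducible) (e : ℕ)
    (h : ∀ k, (R k).trace = e * (U k).trace) :
    (∀ T, (∀ k, R k * T = T * R k) → ∀ k, (R k * T).trace * (U 1).trace = T.trace * (U k).trace) ∧
      ∀ T, (∀ S, (∀ k, R k * S = S * R k) → T * S = S * T) → (∀ k, R k * T = T * R k) →
        ∃ c : ℂ, T = c • 1 := by
  obtain ⟨P, Q, π, hPQ, hQP, hπ, hπR, -⟩ := exists_isotypic R e h
  haveI := nonempty_index hU
  have hmulPQ : ∀ X Y : Matrix (Fin e × Fin m) (Fin e × Fin m) ℂ,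
      P * X * Q * (P * Y * Q) = P * (X * Y) * Q := fun X Y => by
    simp only [Matrix.mul_assoc]
    rw [← Matrix.mul_assoc Q P, hQP, Matrix.one_mul]
  have hinj : ∀ X Y : Matrix (Fin e × Fin m) (Fin e × Fin m) ℂ, P * X * Q = P * Y * Q → X = Y :=
    fun X Y h => by
      have h1 := congrArg (fun Z => Q * Z * P) h
      simp only [← Matrix.mul_assoc, hQP, Matrix.one_mul] at h1
      rwa [Matrix.mul_assoc, hQP, Matrix.mul_one, Matrix.mul_assoc, hQP, Matrix.mul_one] at h1
  obtain ⟨a0⟩ := (inferInstance : Nonempty (Fin m))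
  -- the commutant consists of matrices of scalars
  have hform : ∀ T, (∀ k, R k * T = T * R k) →
      ∃ S : Matrix (Fin e) (Fin e) ℂ, T = P * (S ⊗ₖ (1 : Matrix (Fin m) (Fin m) ℂ)) * Q := by
    intro T hT
    set B := Q * T * P with hB
    have hTB : T = P * B * Q := by
      simp only [hB, ← Matrix.mul_assoc, hPQ, Matrix.one_mul]
      rw [Matrix.mul_assoc, hPQ, Matrix.mul_one]
    have hcomm : ∀ k, copies e U k * B = B * copies e U k := by
      intro k
      have h1 : P * copies e U k * Q = R k := by rw [← hπR k, hπ]; rfl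
      have h2 : copies e U k = Q * R k * P := by
        rw [← h1]
        simp only [← Matrix.mul_assoc, hQP, Matrix.one_mul]
        rw [Matrix.mul_assoc, hQP, Matrix.mul_one]
      rw [h2, hB]
      calc Q * R k * P * (Q * T * P) = Q * (R k * (P * Q) * T) * P := by simp only [Matrix.mul_assoc]
        _ = Q * (T * R k) * P := by rw [hPQ, Matrix.mul_one, hT]
        _ = Q * T * (P * Q) * R k * P := by rw [hPQ, Matrix.mul_one]; simp only [Matrix.mul_assoc]
        _ = _ := by simp only [Matrix.mul_assoc]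
    have hblock : ∀ i j, ∃ c : ℂ, B.submatrix (fun a => (i, a)) (fun b => (j, b)) = c • 1 := fun i j =>
      eq_scalar_of_commute hU fun k => by
        have := block_semicommute (R := U) (B := B) (c := 1) (k := k) (by rw [one_smul]; exact hcomm k) i j
        rwa [one_smul] at this
    choose c hc using hblock
    refine ⟨Matrix.of c, ?_⟩
    rw [hTB]
    congr 2
    ext ⟨i, a⟩ ⟨j, b⟩
    have := congrFun (congrFun (hc i j) a) b
    simp only [Matrix.submatrix_apply, Matrix.smul_apply, smul_eq_mul] at this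
    rw [this, kroneckerMap_apply, Matrix.of_apply]
  refine ⟨fun T hT k => ?_, fun T hcen hT => ?_⟩
  · obtain ⟨S, rfl⟩ := hform T hT
    rw [← hπR k, hπ]
    have h1 : ∀ X : Matrix (Fin e × Fin m) (Fin e × Fin m) ℂ, (P * X * Q).trace = X.trace := fun X => by
      rw [Matrix.trace_mul_comm, ← Matrix.mul_assoc, hQP, Matrix.one_mul]
    rw [show P * ((1 : Matrix (Fin e) (Fin e) ℂ) ⊗ₖ U k) * Q * (P * (S ⊗ₖ (1 : Matrix (Fin m) (Fin m) ℂ)) * Q) =
      P * (((1 : Matrix (Fin e) (Fin e) ℂ) ⊗ₖ U k) * (S ⊗ₖ (1 : Matrix (Fin m) (Fin m) ℂ))) * Q by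
        simp only [Matrix.mul_assoc]; rw [← Matrix.mul_assoc Q P, hQP, Matrix.one_mul],
      h1, h1, ← mul_kronecker_mul, one_mul, mul_one, trace_kronecker, trace_kronecker, map_one U]
    ring
  · obtain ⟨S, rfl⟩ := hform T hT
    have hS : ∀ i j : Fin e, i ≠ j → Commute (Matrix.single i j (1 : ℂ)) S := by
      intro i j _
      have h1 := hcen (P * (Matrix.single i j (1 : ℂ) ⊗ₖ (1 : Matrix (Fin m) (Fin m) ℂ)) * Q) fun k => by
        rw [← hπR k, hπ, hmulPQ, hmulPQ, ← mul_kronecker_mul, ← mul_kronecker_mul, one_mul, mul_one,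
          one_mul, mul_one]
      rw [hmulPQ, hmulPQ] at h1
      have h2 := hinj _ _ h1
      rw [← mul_kronecker_mul, ← mul_kronecker_mul, one_mul] at h2
      refine Matrix.ext fun a b => ?_
      have h3 := congrFun (congrFun h2 (a, a0)) (b, a0)
      simpa [kroneckerMap_apply] using h3.symm
    obtain ⟨c, hc⟩ := Matrix.mem_range_scalar_of_commute_single hS
    refine ⟨c, ?_⟩
    rw [← hc, Matrix.scalar_apply, ← Matrix.smul_one_eq_diagonal, smul_kronecker, one_kronecker_one,
      Matrix.mul_smul, Matrix.mul_one, Matrix.smul_mul, hPQ]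

/-- The trace against an invariant idempotent is a character. -/
theorem isCharacter_trace_idem (M : K →* Matrix n n ℂ) {p : Matrix n n ℂ} (hp : p * p = p)
    (hcomm : ∀ k, M k * p = p * M k) : IsCharacter K fun k => (M k * p).trace := by
  let f := Matrix.toLin' p
  let W := LinearMap.range f
  have hW : ∀ k, ∀ x ∈ W, mrep M k x ∈ W := by
    rintro k _ ⟨y, rfl⟩
    refine ⟨mrep M k y, ?_⟩
    simp only [f, mrep_apply, Matrix.toLin'_apply, Matrix.mulVec_mulVec, hcomm]
  let σ : Representation ℂ K W :=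
    { toFun := fun k => (mrep M k).restrict (hW k)
      map_one' := LinearMap.ext fun x => Subtype.ext (by simp)
      map_mul' := fun a b => LinearMap.ext fun x => Subtype.ext (by simp) }
  have h : σ.character = fun k => (M k * p).trace := funext fun k => by
    have hg : ∀ x, (mrep M k * f) x ∈ W := fun x => hW k _ ⟨x, rfl⟩
    have he : (mrep M k).restrict (hW k) = (mrep M k * f).restrict (fun x (_ : x ∈ W) => hg x) := by
      refine LinearMap.ext fun ⟨x, y, hy⟩ => Subtype.ext ?_
      show mrep M k x = mrep M k (f x)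
      rw [← hy]
      congr 1
      simp only [f, Matrix.toLin'_apply, Matrix.mulVec_mulVec, hp]
    show LinearMap.trace ℂ W ((mrep M k).restrict (hW k)) = _
    let g' : (n → ℂ) →ₗ[ℂ] W := LinearMap.codRestrict W (mrep M k * f) hg
    rw [he, show (mrep M k * f).restrict (fun x (_ : x ∈ W) => hg x) = g' ∘ₗ W.subtype from rfl,
      LinearMap.trace_comp_comm', show W.subtype ∘ₗ g' = mrep M k * f from LinearMap.ext fun x => rfl,
      ← Matrix.trace_toLin'_eq, Matrix.toLin'_mul]
    rfl
  exact h ▸ isCharacter_of_rep σ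

end Cfsg.Agent.Lib.OddSection
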