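import Cfsg.Agent.Lib.OddSection.Abelian
import Cfsg.Agent.Lib.OddSection.MatrixRep
import Mathlib.Analysis.Complex.Polynomial.Basic
import Mathlib.Tactic.NoncommRing

/-!
# The involution of a ramified section

The commutant of `L` in an irreducible representation of `K` is spanned by semi-invariant units,
indexed by a group of linear characters of `K/L`. A coprime group of operators normalises these
units uniquely; half of the commutator pairing turns them into an abelian group, and their normalised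
sum is an involution inverting the index.
-/

set_option autoImplicit false
set_option linter.unusedSectionVars false
set_option linter.style.haveILetI false

namespace Cfsg.Agent.Lib.OddSection

open Matrix
open scoped ComplexConjugate

universe u v

variable {K : Type u} [Group K] {d : Type*} [Fintype d] [DecidableEq d]

/-- Semi-invariance with respect to a linear character. -/
def Semi (R : K →* Matrix d d ℂ) (l : K →* ℂˣ) (T : Matrix d d ℂ) : Prop :=
  ∀ k, R k * T = (l k : ℂ) • (T * R k)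

variable {R : K →* Matrix d d ℂ}

theorem Semi.mul {l m : K →* ℂˣ} {S T : Matrix d d ℂ} (hS : Semi R l S) (hT : Semi R m T) :
    Semi R (l * m) (S * T) := fun k => by
  rw [← mul_assoc, hS k, smul_mul_assoc, mul_assoc, hT k, mul_smul_comm, smul_smul, ← mul_assoc,
    MonoidHom.mul_apply, Units.val_mul]

theorem Semi.smul {l : K →* ℂˣ} {T : Matrix d d ℂ} (hT : Semi R l T) (c : ℂ) : Semi R l (c • T) :=
  fun k => by rw [mul_smul_comm, hT k, smul_mul_assoc, smul_comm]

theorem semi_one : Semi R 1 1 := fun k => by simp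

theorem Semi.inv {l : K →* ℂˣ} {x : (Matrix d d ℂ)ˣ} (hx : Semi R l (x : Matrix d d ℂ)) :
    Semi R l⁻¹ ((x⁻¹ : (Matrix d d ℂ)ˣ) : Matrix d d ℂ) := fun k => by
  have h := congrArg (fun Z => ((x⁻¹ : (Matrix d d ℂ)ˣ) : Matrix d d ℂ) * Z *
    ((x⁻¹ : (Matrix d d ℂ)ˣ) : Matrix d d ℂ)) (hx k)
  simp only [mul_smul_comm, smul_mul_assoc, ← mul_assoc, Units.inv_mul, one_mul] at h
  rw [mul_assoc _ (x : Matrix d d ℂ) _, Units.mul_inv, mul_one] at h
  rw [MonoidHom.inv_apply, Units.val_inv_eq_inv_val, h, smul_smul, inv_mul_cancel₀ (Units.ne_zero _),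
    one_smul]

/-- Scalar units. -/
noncomputable def sc : ℂˣ →* (Matrix d d ℂ)ˣ := Units.map (algebraMap ℂ (Matrix d d ℂ)).toMonoidHom

theorem sc_val (b : ℂˣ) : ((sc b : (Matrix d d ℂ)ˣ) : Matrix d d ℂ) = (b : ℂ) • 1 := by
  simp [sc, Algebra.algebraMap_eq_smul_one]

theorem sc_comm (b : ℂˣ) (x : (Matrix d d ℂ)ˣ) : x * sc b = sc b * x :=
  Units.ext (by simp [sc_val])

theorem sc_injective [Nonempty d] : Function.Injective (sc : ℂˣ → (Matrix d d ℂ)ˣ) := fun a b h => by
  obtain ⟨i⟩ := (inferInstance : Nonempty d)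
  have h1 := congrArg (fun M : Matrix d d ℂ => M i i) (congrArg Units.val h)
  simp [sc_val] at h1
  exact Units.ext h1

/-- The commutator scalar. -/
noncomputable def pairing (x y : (Matrix d d ℂ)ˣ) : ℂˣ :=
  haveI := Classical.propDecidable (∃ b : ℂˣ, x * y = sc b * (y * x))
  if h : ∃ b : ℂˣ, x * y = sc b * (y * x) then h.choose else 1

theorem pairing_eq [Nonempty d] {x y : (Matrix d d ℂ)ˣ} {b : ℂˣ} (h : x * y = sc b * (y * x)) :
    pairing x y = b := by
  have he : ∃ b : ℂˣ, x * y = sc b * (y * x) := ⟨b, h⟩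
  simp only [pairing, dif_pos he]
  exact sc_injective (mul_right_cancel (he.choose_spec.symm.trans h))

section Irred

variable (hR : (mrep R).IsIrreducible)
include hR

theorem Semi.eq_scalar {T : Matrix d d ℂ} (hT : Semi R 1 T) : ∃ c : ℂ, T = c • 1 :=
  eq_scalar_of_commute hR fun k => by simpa using hT k

theorem Semi.isUnit {l : K →* ℂˣ} {T : Matrix d d ℂ} (hT : Semi R l T) (h0 : T ≠ 0) : IsUnit T :=
  isUnit_of_semicommute hR h0 hT fun k => Units.ne_zero _

theorem Semi.exists_smul {l : K →* ℂˣ} {x : (Matrix d d ℂ)ˣ} {T : Matrix d d ℂ}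
    (hx : Semi R l (x : Matrix d d ℂ)) (hT : Semi R l T) :
    ∃ c : ℂ, T = c • (x : Matrix d d ℂ) := by
  obtain ⟨c, hc⟩ := Semi.eq_scalar hR (T := ((x⁻¹ : (Matrix d d ℂ)ˣ) : Matrix d d ℂ) * T)
    (by
      have h := hx.inv.mul hT
      rwa [show l⁻¹ * l = 1 from inv_mul_cancel l] at h)
  refine ⟨c, ?_⟩
  have h := congrArg (fun Z => (x : Matrix d d ℂ) * Z) hc
  simpa using h

theorem exists_pairing {l m : K →* ℂˣ} {x y : (Matrix d d ℂ)ˣ} (hx : Semi R l (x : Matrix d d ℂ))
    (hy : Semi R m (y : Matrix d d ℂ)) : ∃ b : ℂˣ, x * y = sc b * (y * x) := by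
  obtain ⟨c, hc⟩ := Semi.eq_scalar hR (T := ((x * y * (y * x)⁻¹ : (Matrix d d ℂ)ˣ) : Matrix d d ℂ))
    (by
      have h := (hx.mul hy).mul ((hy.mul hx).inv (x := y * x))
      rwa [mul_comm m l, show l * m * (l * m)⁻¹ = 1 from mul_inv_cancel (l * m), ← Units.val_mul,
        ← Units.val_mul] at h)
  haveI := nonempty_index hR
  have hc0 : c ≠ 0 := by
    rintro rfl
    rw [zero_smul] at hc
    exact (Units.isUnit (x * y * (y * x)⁻¹)).ne_zero hc
  refine ⟨Units.mk0 c hc0, ?_⟩
  rw [← mul_inv_eq_iff_eq_mul]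
  exact Units.ext (by rw [sc_val]; exact hc)

theorem mul_eq_pairing {l m : K →* ℂˣ} {x y : (Matrix d d ℂ)ˣ} (hx : Semi R l (x : Matrix d d ℂ))
    (hy : Semi R m (y : Matrix d d ℂ)) : x * y = sc (pairing x y) * (y * x) := by
  haveI := nonempty_index hR
  obtain ⟨b, hb⟩ := exists_pairing hR hx hy
  rwa [pairing_eq hb]

theorem pairing_swap {l m : K →* ℂˣ} {x y : (Matrix d d ℂ)ˣ} (hx : Semi R l (x : Matrix d d ℂ))
    (hy : Semi R m (y : Matrix d d ℂ)) : pairing y x = (pairing x y)⁻¹ := by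
  haveI := nonempty_index hR
  refine pairing_eq ?_
  rw [map_inv, eq_inv_mul_iff_mul_eq]
  exact (mul_eq_pairing hR hx hy).symm

theorem pairing_mul_left {l m o : K →* ℂˣ} {x y z : (Matrix d d ℂ)ˣ}
    (hx : Semi R l (x : Matrix d d ℂ)) (hy : Semi R m (y : Matrix d d ℂ))
    (hz : Semi R o (z : Matrix d d ℂ)) : pairing (x * y) z = pairing x z * pairing y z := by
  haveI := nonempty_index hR
  refine pairing_eq ?_
  calc x * y * z = x * (sc (pairing y z) * (z * y)) := by rw [mul_assoc, mul_eq_pairing hR hy hz]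
    _ = sc (pairing y z) * (x * z * y) := by rw [← mul_assoc, sc_comm]; group
    _ = sc (pairing y z) * (sc (pairing x z) * (z * x) * y) := by rw [mul_eq_pairing hR hx hz]
    _ = _ := by rw [mul_comm (pairing x z), map_mul]; group

theorem pairing_sc_left {l m : K →* ℂˣ} {x y : (Matrix d d ℂ)ˣ} (c : ℂˣ)
    (hx : Semi R l (x : Matrix d d ℂ)) (hy : Semi R m (y : Matrix d d ℂ)) :
    pairing (sc c * x) y = pairing x y := by
  haveI := nonempty_index hR
  refine pairing_eq ?_
  calc sc c * x * y = sc c * (sc (pairing x y) * (y * x)) := by rw [mul_assoc, mul_eq_pairing hR hx hy]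
    _ = sc (pairing x y) * (sc c * y * x) := by rw [← mul_assoc, ← map_mul, mul_comm c, map_mul]; group
    _ = sc (pairing x y) * (y * (sc c * x)) := by rw [← sc_comm c y]; group

theorem pairing_self (x : (Matrix d d ℂ)ˣ) : pairing x x = 1 := by
  haveI := nonempty_index hR
  exact pairing_eq (by simp)

variable [Fintype K]

theorem pairing_pow {l m : K →* ℂˣ} {x y : (Matrix d d ℂ)ˣ} (hx : Semi R l (x : Matrix d d ℂ))
    (hy : Semi R m (y : Matrix d d ℂ)) : pairing x y ^ Nat.card K = 1 := by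
  haveI := nonempty_index hR
  have hsemi : ∀ i : ℕ, Semi R (l ^ i) ((x ^ i : (Matrix d d ℂ)ˣ) : Matrix d d ℂ) := by
    intro i
    induction i with
    | zero =>
      rw [show l ^ 0 = 1 from pow_zero l, pow_zero, Units.val_one]
      exact semi_one
    | succ i ih =>
      rw [show l ^ (i + 1) = l ^ i * l from pow_succ l i, pow_succ, Units.val_mul]
      exact ih.mul hx
  have hpow : ∀ i : ℕ, pairing (x ^ i) y = pairing x y ^ i := by
    intro i
    induction i with
    | zero => exact pairing_eq (by simp)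
    | succ i ih => rw [pow_succ, pow_succ, pairing_mul_left hR (hsemi i) hx hy, ih]
  rw [← hpow]
  obtain ⟨c, hc⟩ := Semi.eq_scalar hR (T := ((x ^ Nat.card K : (Matrix d d ℂ)ˣ) : Matrix d d ℂ)) (by
    have h := hsemi (Nat.card K)
    rwa [show l ^ Nat.card K = 1 from MonoidHom.ext fun k => by
      rw [MonoidHom.pow_apply, ← map_pow, pow_card_eq_one', map_one, MonoidHom.one_apply]] at h)
  refine pairing_eq ?_
  rw [map_one, one_mul]
  refine Units.ext ?_
  rw [Units.val_mul, Units.val_mul, hc, smul_mul_assoc, mul_smul_comm, one_mul, mul_one]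

end Irred

/-- The abelian group of semi-invariant units attached to an odd order. -/
structure Pair (R : K →* Matrix d d ℂ) (L : Subgroup K) where
  lin : dual L
  val : (Matrix d d ℂ)ˣ
  semi : Semi R lin.1 (val : Matrix d d ℂ)

theorem Pair.ext' {L : Subgroup K} {p q : Pair R L} (h1 : p.lin = q.lin) (h2 : p.val = q.val) :
    p = q := by
  cases p; cases q; cases h1; cases h2; rfl

section Group

variable [Fintype K] (hR : (mrep R).IsIrreducible) (hodd : Odd (Nat.card K)) (L : Subgroup K)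

/-- Half of the pairing. -/
noncomputable def half (x y : (Matrix d d ℂ)ˣ) : ℂˣ := pairing x y ^ ((Nat.card K + 1) / 2)

include hR hodd in
theorem half_sq (p q : Pair R L) : half (K := K) p.val q.val * half (K := K) p.val q.val = pairing p.val q.val := by
  rw [half, ← pow_add, show (Nat.card K + 1) / 2 + (Nat.card K + 1) / 2 = Nat.card K + 1 by
    obtain ⟨j, hj⟩ := hodd; omega, pow_succ, pairing_pow hR p.semi q.semi, one_mul]

/-- The twisted product. -/
noncomputable def Pair.mk' (p q : Pair R L) : Pair R L :=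
  ⟨p.lin * q.lin, (sc (half (K := K) p.val q.val))⁻¹ * (p.val * q.val), by
    rw [← map_inv, Units.val_mul, sc_val, smul_mul_assoc, one_mul, Units.val_mul]
    exact (p.semi.mul q.semi).smul _⟩

/-- The group structure. -/
@[instance_reducible]
noncomputable def pairGroup : CommGroup (Pair R L) where
  mul := Pair.mk' L
  one := ⟨1, 1, by simpa using semi_one⟩
  inv p := ⟨p.lin⁻¹, p.val⁻¹, p.semi.inv⟩
  mul_assoc p q r := by
    refine Pair.ext' (mul_assoc _ _ _) ?_
    show (sc (half (K := K) ((sc (half (K := K) p.val q.val))⁻¹ * (p.val * q.val)) r.val))⁻¹ *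
        ((sc (half (K := K) p.val q.val))⁻¹ * (p.val * q.val) * r.val) =
      (sc (half (K := K) p.val ((sc (half (K := K) q.val r.val))⁻¹ * (q.val * r.val))))⁻¹ *
        (p.val * ((sc (half (K := K) q.val r.val))⁻¹ * (q.val * r.val)))
    have h1 : half (K := K) ((sc (half (K := K) p.val q.val))⁻¹ * (p.val * q.val)) r.val =
        half (K := K) p.val r.val * half (K := K) q.val r.val := by
      simp only [half]
      rw [← map_inv, pairing_sc_left hR _ (l := p.lin.1 * q.lin.1) (by simpa using p.semi.mul q.semi) r.semi,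
        pairing_mul_left hR p.semi q.semi r.semi, mul_pow]
    have hqr : Semi R (q.lin.1 * r.lin.1) ((q.val * r.val : (Matrix d d ℂ)ˣ) : Matrix d d ℂ) := by
      simpa using q.semi.mul r.semi
    have h2 : half (K := K) p.val ((sc (half (K := K) q.val r.val))⁻¹ * (q.val * r.val)) =
        half (K := K) p.val q.val * half (K := K) p.val r.val := by
      simp only [half]
      rw [← map_inv, ← inv_inv (pairing p.val _), ← pairing_swap hR p.semi (y := _) (m := q.lin.1 * r.lin.1) (by
          rw [Units.val_mul, sc_val, smul_mul_assoc, one_mul]; exact hqr.smul _),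
        pairing_sc_left hR _ hqr p.semi, pairing_mul_left hR q.semi r.semi p.semi,
        pairing_swap hR p.semi q.semi, pairing_swap hR p.semi r.semi, mul_inv, inv_inv, inv_inv, mul_pow]
    rw [h1, h2]
    simp only [← map_inv, ← mul_assoc]
    rw [sc_comm (half (K := K) q.val r.val)⁻¹ p.val |> fun h => show
      sc (half (K := K) p.val q.val * half (K := K) p.val r.val)⁻¹ * p.val * sc (half (K := K) q.val r.val)⁻¹ =
      sc (half (K := K) p.val q.val * half (K := K) p.val r.val)⁻¹ * sc (half (K := K) q.val r.val)⁻¹ * p.val by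
        rw [mul_assoc, h, ← mul_assoc]]
    rw [← map_mul, ← map_mul]
    congr 4
    rw [← mul_inv, ← mul_inv]
    congr 1
    ac_rfl
  one_mul p := by
    refine Pair.ext' (one_mul _) ?_
    show (sc (half (K := K) (1 : (Matrix d d ℂ)ˣ) p.val))⁻¹ * (1 * p.val) = p.val
    haveI := nonempty_index hR
    rw [half, pairing_eq (b := 1) (by simp)]
    simp
  mul_one p := by
    refine Pair.ext' (mul_one _) ?_
    show (sc (half (K := K) p.val (1 : (Matrix d d ℂ)ˣ)))⁻¹ * (p.val * 1) = p.val
    haveI := nonempty_index hR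
    rw [half, pairing_eq (b := 1) (by simp)]
    simp
  inv_mul_cancel p := by
    refine Pair.ext' (inv_mul_cancel _) ?_
    show (sc (half (K := K) p.val⁻¹ p.val))⁻¹ * (p.val⁻¹ * p.val) = 1
    haveI := nonempty_index hR
    rw [half, pairing_eq (b := 1) (by simp)]
    simp
  mul_comm p q := by
    refine Pair.ext' (mul_comm _ _) ?_
    show (sc (half (K := K) p.val q.val))⁻¹ * (p.val * q.val) =
      (sc (half (K := K) q.val p.val))⁻¹ * (q.val * p.val)
    have hh : half (K := K) q.val p.val = (half (K := K) p.val q.val)⁻¹ := by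
      rw [half, half, pairing_swap hR p.semi q.semi, inv_pow]
    rw [hh, map_inv, inv_inv, mul_eq_pairing hR p.semi q.semi, ← half_sq hR hodd L p q, map_mul]
    group

end Group

section Main

variable [Fintype K] {L : Subgroup K} [hL : L.Normal]

theorem exists_auto (R : K →* Matrix d d ℂ) (u : MulAut K)
    (hu : ∀ k, (R (u k)).trace = (R k).trace) :
    ∃ Φ : Matrix d d ℂ →ₐ[ℂ] Matrix d d ℂ, ∀ k, Φ (R k) = R (u k) := by
  obtain ⟨P, Q, hPQ, hQP, hM⟩ := exists_intertwiner R (R.comp u.toMonoidHom) hu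
  refine ⟨AlgHom.ofLinearMap
    { toFun := fun T => P * T * Q
      map_add' := fun a b => by rw [Matrix.mul_add, Matrix.add_mul]
      map_smul' := fun c a => by rw [Matrix.mul_smul, Matrix.smul_mul]; rfl } ?_ ?_, fun k => ?_⟩
  · show P * 1 * Q = 1
    rw [Matrix.mul_one, hPQ]
  · intro S T
    show P * (S * T) * Q = P * S * Q * (P * T * Q)
    simp only [Matrix.mul_assoc]
    rw [← Matrix.mul_assoc Q P, hQP, Matrix.one_mul]
  · show P * R k * Q = R (u k)
    rw [← hM, Matrix.mul_assoc, hPQ, Matrix.mul_one]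
    rfl

theorem algHom_eq (hR : (mrep R).IsIrreducible) {Φ Ψ : Matrix d d ℂ →ₐ[ℂ] Matrix d d ℂ}
    (h : ∀ k, Φ (R k) = Ψ (R k)) : Φ = Ψ :=
  AlgHom.ext fun T => LinearMap.congr_fun
    (linearMap_ext_rep hR (f := Φ.toLinearMap) (g := Ψ.toLinearMap) h) T

theorem Semi.map {Φ : Matrix d d ℂ →ₐ[ℂ] Matrix d d ℂ} {u : MulAut K}
    (hΦ : ∀ k, Φ (R k) = R (u k)) {l : K →* ℂˣ} {T : Matrix d d ℂ} (hT : Semi R l T) :
    Semi R (l.comp u.symm.toMonoidHom) (Φ T) := fun k => by
  obtain ⟨j, rfl⟩ := u.surjective k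
  rw [← hΦ, ← map_mul, hT j, map_smul, map_mul]
  simp

variable {A : Type v} [Group A] [Fintype A] (uA : A →* MulAut K)

/-- The involution. -/
theorem exists_involution (hR : (mrep R).IsIrreducible) (hodd : Odd (Nat.card K))
    (hab : ∀ a b : K ⧸ L, a * b = b * a) (hcop : (Nat.card K).Coprime (Nat.card A))
    (huA : ∀ a k, (R (uA a k)).trace = (R k).trace) (huL : ∀ a, ∀ x ∈ L, uA a x ∈ L)
    (hdual : ∀ l : dual L, (∀ a x, l.1 (uA a x) = l.1 x) → l = 1)
    (ν : L → ℂ) (hν1 : ν 1 ≠ 0)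
    (htr : ∀ T, (∀ x : L, R x * T = T * R x) → ∀ x : L, (R x * T).trace * ν 1 = T.trace * ν x)
    (hcen : ∀ T, (∀ S, (∀ x : L, R x * S = S * R x) → T * S = S * T) →
      (∀ x : L, R x * T = T * R x) → ∃ c : ℂ, T = c • 1) :
    ∃ J : Matrix d d ℂ, J * J = 1 ∧ (∀ x : L, R x * J = J * R x) ∧
      (∀ (l : dual L) (T : Matrix d d ℂ), Semi R l.1 T → Semi R l.1⁻¹ (J * T * J)) ∧
      (∀ (u : MulAut K) (Φ : Matrix d d ℂ →ₐ[ℂ] Matrix d d ℂ), (∀ k, Φ (R k) = R (u k)) →
        (∀ x ∈ L, u x ∈ L) → (∀ a k, u (uA a k) = uA a (u k)) → Φ J = J) ∧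
      ∃ c : ℂ, c ≠ 0 ∧ ∀ x : L, (R x * J).trace = c * ν x := by
  classical
  haveI := nonempty_index hR
  letI : CommGroup (Pair R L) := pairGroup hR hodd L
  haveI : Fintype (dual L) := Fintype.ofFinite _
  have hmul_lin : ∀ p q : Pair R L, (p * q).lin = p.lin * q.lin := fun _ _ => rfl
  have hmul_val : ∀ p q : Pair R L, (p * q).val =
      (sc (half (K := K) p.val q.val))⁻¹ * (p.val * q.val) := fun _ _ => rfl
  let proj : Pair R L →* dual L := { toFun := fun p => p.lin, map_one' := rfl, map_mul' := hmul_lin }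
  have hmem : ∀ (u : MulAut K), (∀ x ∈ L, u x ∈ L) → ∀ x ∈ L, u.symm x ∈ L := by
    intro u hu x hx
    obtain ⟨y, hy⟩ := (Finite.injective_iff_surjective.1 (show Function.Injective
      (fun z : L => (⟨u z, hu z z.2⟩ : L)) from fun a b h => Subtype.ext (u.injective (congrArg Subtype.val h)))) ⟨x, hx⟩
    have hy' : u (y : K) = x := congrArg Subtype.val hy
    rw [← hy', MulEquiv.symm_apply_apply]
    exact y.2
  -- the action of an automorphism
  have hact : ∀ (u : MulAut K) (Φ : Matrix d d ℂ →ₐ[ℂ] Matrix d d ℂ), (∀ k, Φ (R k) = R (u k)) →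
      (∀ x ∈ L, u x ∈ L) → ∃ ψ : Pair R L →* Pair R L, ∀ p,
        ((ψ p).lin.1 = p.lin.1.comp u.symm.toMonoidHom) ∧ ((ψ p).val : Matrix d d ℂ) = Φ (p.val : Matrix d d ℂ) := by
    intro u Φ hΦ hu
    let f : Pair R L → Pair R L := fun p => ⟨⟨p.lin.1.comp u.symm.toMonoidHom, fun x hx =>
      p.lin.2 _ (hmem u hu x hx)⟩, Units.map Φ.toRingHom.toMonoidHom p.val, p.semi.map hΦ⟩
    refine ⟨MonoidHom.mk' f fun p q => Pair.ext' (Subtype.ext (MonoidHom.ext fun x => rfl)) ?_,
      fun p => ⟨rfl, rfl⟩⟩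
    show Units.map Φ.toRingHom.toMonoidHom _ = (sc (half (K := K) (f p).val (f q).val))⁻¹ * ((f p).val * (f q).val)
    have hsc : ∀ b : ℂˣ, Units.map Φ.toRingHom.toMonoidHom (sc b) = sc b := fun b => Units.ext (by
      show Φ _ = _
      rw [sc_val, map_smul, map_one])
    have hp : pairing (f p).val (f q).val = pairing p.val q.val := pairing_eq (by
      show Units.map Φ.toRingHom.toMonoidHom p.val * Units.map Φ.toRingHom.toMonoidHom q.val = _
      rw [← map_mul, mul_eq_pairing hR p.semi q.semi, map_mul, map_mul, hsc])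
    rw [half, hp, hmul_val, map_mul, map_inv, map_mul, hsc]
    rfl
  choose ΦA hΦA using fun a => exists_auto R (uA a) (huA a)
  choose ψ hψ using fun a => hact (uA a) (ΦA a) (hΦA a) (huL a)
  have hψext : ∀ {p q : Pair R L}, p.lin.1 = q.lin.1 → (p.val : Matrix d d ℂ) = (q.val : Matrix d d ℂ) → p = q :=
    fun h1 h2 => Pair.ext' (Subtype.ext h1) (Units.ext h2)
  have hψmul : ∀ a b p, ψ a (ψ b p) = ψ (a * b) p := by
    intro a b p
    refine hψext ?_ ?_
    · rw [(hψ a _).1, (hψ b _).1, (hψ _ _).1, map_mul]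
      rfl
    · rw [(hψ a _).2, (hψ b _).2, (hψ _ _).2, show ΦA (a * b) = (ΦA a).comp (ΦA b) from algHom_eq hR fun k => by
        rw [AlgHom.comp_apply, hΦA, hΦA, hΦA, map_mul]; rfl]
      rfl
  let N : Pair R L →* Pair R L := ∏ a, ψ a
  have hN : ∀ p, N p = ∏ a, ψ a p := fun p => MonoidHom.finsetProd_apply _ _ _
  have hNfix : ∀ a p, ψ a (N p) = N p := fun a p => by
    rw [hN, map_prod]
    exact Fintype.prod_equiv (Equiv.mulLeft a) _ _ fun b => hψmul a b p
  have hNlin : ∀ p, (N p).lin = 1 := fun p => hdual _ fun a x => by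
    have h := (hψ a (N p)).1
    rw [hNfix] at h
    conv_lhs => rw [h]
    simp
  obtain ⟨m, hm1, hm0⟩ := Nat.chineseRemainder hcop 1 0
  obtain ⟨i, hi⟩ := Nat.modEq_zero_iff_dvd.1 hm0
  let e : Pair R L →* Pair R L := (powMonoidHom i).comp (powMonoidHom (Nat.card A) / N)
  have hlinpow : ∀ l : dual L, ∀ j, j ≡ 1 [MOD Nat.card K] → l ^ j = l := fun l j hj =>
    Subtype.ext (MonoidHom.ext fun x => by
      rw [SubmonoidClass.coe_pow, MonoidHom.pow_apply]
      conv_rhs => rw [← pow_one (l.1 x)]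
      exact pow_eq_pow_of_modEq hj (by rw [← map_pow, pow_card_eq_one', map_one]))
  have heval : ∀ p, e p = (p ^ Nat.card A / N p) ^ i := fun p => rfl
  have he_lin : ∀ p, (e p).lin = p.lin := fun p => by
    show proj (e p) = proj p
    rw [heval, map_pow, map_div, map_pow, show proj (N p) = 1 from hNlin p, div_one, ← pow_mul, ← hi]
    exact hlinpow _ _ hm1
  have he_ker : ∀ p, p.lin = 1 → e p = 1 := fun p hp => by
    obtain ⟨c, hc⟩ := Semi.eq_scalar hR (T := (p.val : Matrix d d ℂ)) (by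
      have h := p.semi
      rwa [hp] at h)
    have hfix : ∀ a, ψ a p = p := fun a => hψext (by
      rw [(hψ a p).1, hp]
      exact MonoidHom.ext fun x => rfl) (by rw [(hψ a p).2, hc, map_smul, map_one])
    rw [heval, hN, Finset.prod_congr rfl fun a _ => hfix a, Finset.prod_const, Finset.card_univ,
      ← Nat.card_eq_fintype_card, div_self', one_pow]
  have he_indep : ∀ p q, p.lin = q.lin → e p = e q := fun p q h => by
    rw [← div_eq_one, ← map_div]
    refine he_ker _ ?_
    show proj (p / q) = 1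
    rw [map_div]
    exact div_eq_one.2 h
  let Λ := proj.range
  have hpre : ∀ l : Λ, ∃ p : Pair R L, p.lin = l.1 := fun l => l.2
  choose pre hpre using hpre
  let σ : Λ →* Pair R L := MonoidHom.mk' (fun l => e (pre l)) fun l m => by
    rw [← map_mul]
    exact he_indep _ _ (by rw [hmul_lin, hpre, hpre, hpre]; rfl)
  have hσlin : ∀ l : Λ, (σ l).lin = l.1 := fun l => by
    show (e (pre l)).lin = _
    rw [he_lin, hpre]
  have hσsemi : ∀ l : Λ, Semi R l.1.1 ((σ l).val : Matrix d d ℂ) := fun l => hσlin l ▸ (σ l).semi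
  set S : Λ → Matrix d d ℂ := fun l => ((σ l).val : Matrix d d ℂ) with hS
  -- half pairing
  set γ : Λ → Λ → ℂˣ := fun l m => half (K := K) (σ l).val (σ m).val with hγ
  have hSmul : ∀ l m, S l * S m = (γ l m : ℂ) • S (l * m) := fun l m => by
    have h : (σ l).val * (σ m).val = sc (γ l m) * (σ (l * m)).val := by
      rw [map_mul, hmul_val, mul_inv_cancel_left]
    have h1 := congrArg Units.val h
    rwa [Units.val_mul, Units.val_mul, sc_val, smul_mul_assoc, one_mul] at h1
  have hS1 : S 1 = 1 := by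
    show ((σ 1).val : Matrix d d ℂ) = 1
    rw [map_one]
    rfl
  have hγmul : ∀ l m o, γ (l * m) o = γ l o * γ m o := fun l m o => by
    simp only [hγ, half, map_mul, hmul_val]
    rw [← map_inv, pairing_sc_left hR _ (by simpa using (σ l).semi.mul (σ m).semi) (σ o).semi,
      pairing_mul_left hR (σ l).semi (σ m).semi (σ o).semi, mul_pow]
  have hγswap : ∀ l m, γ m l = (γ l m)⁻¹ := fun l m => by
    simp only [hγ, half]
    rw [pairing_swap hR (σ l).semi (σ m).semi, inv_pow]
  have hγself : ∀ l, γ l l = 1 := fun l => by simp [hγ, half, pairing_self hR]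
  let g : Λ → (Λ →* ℂˣ) := fun o => MonoidHom.mk' (fun l => γ l o) fun l m => hγmul l m o
  have hγinv : ∀ l o, γ l⁻¹ o = (γ l o)⁻¹ := fun l o => map_inv (g o) l
  -- spanning
  have hspan : ∀ T, (∀ x : L, R x * T = T * R x) → ∃ a : dual L → Matrix d d ℂ,
      (∀ l, Semi R l.1 (a l)) ∧ T = ∑ l, a l := by
    intro T hT
    refine ⟨fun l => (Nat.card K : ℂ)⁻¹ • ∑ k, ((l.1 k)⁻¹ : ℂˣ).val • (R k * T * R k⁻¹),
      fun l => Semi.smul (fun j => ?_) _, ?_⟩
    · rw [Finset.mul_sum, Finset.sum_mul, Finset.smul_sum]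
      refine Fintype.sum_equiv (Equiv.mulLeft j) _ _ fun k => ?_
      rw [Equiv.coe_mulLeft, mul_smul_comm, smul_mul_assoc, smul_smul, ← mul_assoc, ← mul_assoc, ← map_mul,
        mul_assoc (R (j * k) * T), ← map_mul, _root_.mul_inv_rev, inv_mul_cancel_right]
      congr 1
      simp only [map_mul, mul_inv, Units.val_mul, Units.val_inv_eq_inv_val]
      field_simp
    · rw [← Finset.smul_sum, Finset.sum_comm]
      have hk : ∀ k : K, (∑ l : dual L, ((l.1 k)⁻¹ : ℂˣ).val • (R k * T * R k⁻¹)) =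
          if k ∈ L then (L.index : ℂ) • T else 0 := by
        intro k
        rw [← Finset.sum_smul, Finset.sum_congr rfl fun (l : dual L) _ => show
          ((l.1 k)⁻¹ : ℂˣ).val = (l.1 k⁻¹ : ℂ) by rw [map_inv], sum_dual L hab]
        by_cases hk : k ∈ L
        · rw [if_pos (L.inv_mem hk), if_pos hk, hT ⟨k, hk⟩, mul_assoc, ← map_mul, mul_inv_cancel, map_one,
            mul_one]
        · rw [if_neg (mt L.inv_mem_iff.1 hk), if_neg hk, zero_smul]
      rw [Finset.sum_congr rfl fun k _ => hk k, ← Finset.sum_filter, Finset.sum_const,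
        ← Nat.cast_smul_eq_nsmul ℂ, smul_smul, smul_smul]
      have hc : ((Finset.univ.filter (· ∈ L)).card : ℂ) * L.index = Nat.card K := by
        rw [← L.card_mul_index, Nat.cast_mul, Nat.card_eq_fintype_card (α := L), Fintype.card_subtype]
      rw [mul_assoc, hc, inv_mul_cancel₀ (Nat.cast_ne_zero.2 Nat.card_pos.ne'), one_smul]
  have hinΛ : ∀ (l : dual L) (T : Matrix d d ℂ), Semi R l.1 T → T ≠ 0 →
      ∃ (lΛ : Λ) (c : ℂ), lΛ.1 = l ∧ T = c • S lΛ := by
    intro l T hT h0
    let q : Pair R L := ⟨l, (hT.isUnit hR h0).unit, by simpa using hT⟩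
    let lΛ : Λ := ⟨l, q, rfl⟩
    obtain ⟨c, hc⟩ := Semi.exists_smul hR (hσsemi lΛ) hT
    exact ⟨lΛ, c, rfl, hc⟩
  -- nondegeneracy
  have hnondeg : ∀ o : Λ, (∀ l, γ o l = 1) → o = 1 := by
    intro o ho
    have hcomm : ∀ T, (∀ x : L, R x * T = T * R x) → S o * T = T * S o := by
      intro T hT
      obtain ⟨a, ha, rfl⟩ := hspan T hT
      rw [Finset.mul_sum, Finset.sum_mul]
      refine Finset.sum_congr rfl fun l _ => ?_
      by_cases h0 : a l = 0
      · rw [h0, mul_zero, zero_mul]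
      · obtain ⟨lΛ, c, -, hc⟩ := hinΛ l (a l) (ha l) h0
        rw [hc, mul_smul_comm, smul_mul_assoc, hSmul, hSmul, hγswap o lΛ, ho, inv_one, mul_comm o lΛ]
    obtain ⟨c, hc⟩ := hcen (S o) hcomm fun x => by
      have h := hσsemi o x
      rwa [o.1.2 x x.2, Units.val_one, one_smul] at h
    refine Subtype.ext (Subtype.ext (MonoidHom.ext fun k => Units.ext ?_))
    have hne : S o ≠ 0 := (σ o).val.isUnit.ne_zero
    have h := hσsemi o k
    rw [show ((σ o).val : Matrix d d ℂ) = c • 1 from hc, mul_smul_comm, mul_one, smul_mul_assoc, one_mul,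
      smul_smul] at h
    have hRk : R k ≠ 0 := ((Group.isUnit k).map R).ne_zero
    have h2 := smul_left_injective ℂ hRk h
    have hc0 : c ≠ 0 := fun h0 => hne (by rw [hc, h0, zero_smul])
    exact mul_right_cancel₀ hc0 (h2.symm.trans (one_mul c).symm)
  have hsum : ∀ o : Λ, ∑ l, (γ o l : ℂ) = if o = 1 then (Fintype.card Λ : ℂ) else 0 := by
    intro o
    split_ifs with ho
    · subst ho
      rw [Finset.sum_congr rfl fun l _ => show (γ 1 l : ℂ) = 1 by rw [show γ 1 l = 1 from map_one (g l)]; rfl,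
        Finset.sum_const, Finset.card_univ, nsmul_one]
    · have hne : (g o)⁻¹ ≠ 1 := by
        intro h
        refine ho (hnondeg o fun l => ?_)
        have h1 : (γ l o)⁻¹ = 1 := DFunLike.congr_fun h l
        rw [hγswap l o, h1]
      have h := sum_hom_eq_zero hne
      refine (Finset.sum_congr rfl fun l _ => ?_).trans h
      rw [hγswap l o]
      rfl
  set J₁ := ∑ l, S l with hJ₁
  have hJright : ∀ o, J₁ * S o = ∑ ν', (γ ν' o : ℂ) • S ν' := fun o => by
    rw [hJ₁, Finset.sum_mul]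
    refine Fintype.sum_equiv (Equiv.mulRight o) _ _ fun l => ?_
    rw [Equiv.coe_mulRight, hSmul, hγmul, hγself, mul_one]
  have hJleft : ∀ o, S o⁻¹ * J₁ = ∑ ν', (γ ν' o : ℂ) • S ν' := fun o => by
    rw [hJ₁, Finset.mul_sum]
    refine Fintype.sum_equiv (Equiv.mulLeft o⁻¹) _ _ fun l => ?_
    rw [Equiv.coe_mulLeft, hSmul, hγmul, hγinv o o, hγself, inv_one, one_mul, hγinv, hγswap o l]
  have hJsq : J₁ * J₁ = (Fintype.card Λ : ℂ) • 1 := by
    conv_lhs => arg 2; rw [hJ₁]
    rw [Finset.mul_sum, Finset.sum_congr rfl fun o _ => hJright o, Finset.sum_comm,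
      Finset.sum_eq_single 1]
    · rw [← Finset.sum_smul, hsum, if_pos rfl, hS1]
    · intro o _ ho
      rw [← Finset.sum_smul, hsum, if_neg ho, zero_smul]
    · simp
  obtain ⟨r, hr⟩ := IsAlgClosed.exists_pow_nat_eq (Fintype.card Λ : ℂ) (n := 2) (by norm_num)
  have hr0 : r ≠ 0 := by
    rintro rfl
    exact (Nat.cast_ne_zero (R := ℂ)).2 Fintype.card_ne_zero (by rw [← hr]; ring)
  have hSL : ∀ (l : Λ) (x : L), R x * S l = S l * R x := fun l x => by
    have h := hσsemi l x
    rwa [l.1.2 x x.2, Units.val_one, one_smul] at h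
  refine ⟨r⁻¹ • J₁, ?_, fun x => ?_, fun l T hT => ?_, fun u Φ hΦ hu hcm => ?_, ?_⟩
  · rw [smul_mul_smul_comm, hJsq, smul_smul, ← hr]
    convert one_smul ℂ (1 : Matrix d d ℂ) using 2
    field_simp
  · rw [mul_smul_comm, smul_mul_assoc, hJ₁, Finset.mul_sum, Finset.sum_mul,
      Finset.sum_congr rfl fun l _ => hSL l x]
  · by_cases h0 : T = 0
    · subst h0
      intro k
      simp
    · obtain ⟨lΛ, c, rfl, rfl⟩ := hinΛ l T hT h0
      have h : (r⁻¹ • J₁) * (c • S lΛ) * (r⁻¹ • J₁) = c • S lΛ⁻¹ := by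
        have h1 := hJright lΛ
        rw [← hJleft] at h1
        simp only [mul_smul_comm, smul_mul_assoc, smul_smul]
        rw [h1, mul_assoc, hJsq, mul_smul_comm, mul_one, smul_smul, ← hr]
        congr 1
        field_simp
      rw [h]
      exact (hσsemi lΛ⁻¹).smul c
  · obtain ⟨ψu, hψu⟩ := hact u Φ hΦ hu
    have hcm' : ∀ a p, ψu (ψ a p) = ψ a (ψu p) := fun a p => by
      refine hψext ?_ ?_
      · rw [(hψu _).1, (hψ a p).1, (hψ a _).1, (hψu p).1]
        refine MonoidHom.ext fun x => ?_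
        show p.lin.1 ((uA a).symm (u.symm x)) = p.lin.1 (u.symm ((uA a).symm x))
        congr 1
        refine (uA a).injective (u.injective ?_)
        rw [MulEquiv.apply_symm_apply, MulEquiv.apply_symm_apply, hcm, MulEquiv.apply_symm_apply,
          MulEquiv.apply_symm_apply]
      · rw [(hψu _).2, (hψ a p).2, (hψ a _).2, (hψu p).2, ← AlgHom.comp_apply, ← AlgHom.comp_apply]
        exact AlgHom.congr_fun (algHom_eq hR fun k => by
          rw [AlgHom.comp_apply, AlgHom.comp_apply, hΦA, hΦ, hΦ, hΦA, hcm]) _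
    have hNu : ∀ p, ψu (N p) = N (ψu p) := fun p => by
      rw [hN, hN, map_prod]
      exact Finset.prod_congr rfl fun a _ => hcm' a p
    have heu : ∀ p, ψu (e p) = e (ψu p) := fun p => by
      rw [heval, heval, map_pow, map_div, map_pow, hNu]
    have hmemΛ : ∀ l : Λ, (ψu (σ l)).lin ∈ Λ := fun l => ⟨ψu (σ l), rfl⟩
    let τ : Λ → Λ := fun l => ⟨(ψu (σ l)).lin, hmemΛ l⟩
    have hτ : ∀ l, Φ (S l) = S (τ l) := fun l => by
      show Φ ((σ l).val : Matrix d d ℂ) = ((σ (τ l)).val : Matrix d d ℂ)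
      rw [← (hψu (σ l)).2]
      congr 2
      show ψu (e (pre l)) = e (pre (τ l))
      rw [heu]
      refine he_indep _ _ ?_
      rw [hpre]
      show _ = (ψu (σ l)).lin
      refine Subtype.ext ?_
      rw [(hψu _).1, (hψu (σ l)).1, hσlin, hpre]
    have hτinj : Function.Injective τ := fun a b h => by
      have h' : (ψu (σ a)).lin.1 = (ψu (σ b)).lin.1 := congrArg (fun z : Λ => z.1.1) h
      rw [(hψu _).1, (hψu _).1, hσlin, hσlin] at h'
      refine Subtype.ext (Subtype.ext (MonoidHom.ext fun x => ?_))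
      have := DFunLike.congr_fun h' (u x)
      simpa using this
    rw [map_smul, hJ₁, map_sum, Finset.sum_congr rfl fun l _ => hτ l]
    exact congrArg _ (Fintype.sum_bijective τ (Finite.injective_iff_bijective.1 hτinj) _ _ fun l => rfl)
  · refine ⟨r⁻¹ * (Fintype.card d : ℂ) / ν 1, div_ne_zero (mul_ne_zero (inv_ne_zero hr0)
      (Nat.cast_ne_zero.2 Fintype.card_ne_zero)) hν1, fun x => ?_⟩
    have htrS : ∀ l : Λ, l ≠ 1 → (S l).trace = 0 := by
      intro l hl
      obtain ⟨k, hk⟩ : ∃ k, l.1.1 k ≠ 1 := by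
        by_contra hcon
        push Not at hcon
        exact hl (Subtype.ext (Subtype.ext (MonoidHom.ext hcon)))
      have h : (S l).trace = (l.1.1 k : ℂ) * (S l).trace := by
        have h2 : R k * S l * R k⁻¹ = (l.1.1 k : ℂ) • S l := by
          rw [hσsemi l k, smul_mul_assoc, mul_assoc, ← map_mul, mul_inv_cancel, map_one, mul_one]
        rw [← smul_eq_mul, ← Matrix.trace_smul, ← h2, Matrix.trace_mul_comm, ← mul_assoc, ← map_mul,
          inv_mul_cancel, map_one, one_mul]
      have h2 : ((l.1.1 k : ℂ) - 1) * (S l).trace = 0 := by rw [sub_mul, one_mul, ← h, sub_self]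
      exact (mul_eq_zero.1 h2).resolve_left (sub_ne_zero.2 fun h3 => hk (Units.ext h3))
    rw [mul_smul_comm, Matrix.trace_smul, smul_eq_mul, hJ₁, Finset.mul_sum, Matrix.trace_sum,
      Finset.sum_eq_single 1]
    · have h := htr (S 1) (hSL 1) x
      rw [hS1, Matrix.trace_one] at h
      rw [hS1, div_mul_eq_mul_div, mul_assoc r⁻¹, ← h]
      field_simp
    · intro l _ hl
      have h := htr (S l) (hSL l) x
      rw [htrS l hl, zero_mul] at h
      exact (mul_eq_zero.1 h).resolve_right hν1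
    · simp

end Main

end Cfsg.Agent.Lib.OddSection
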